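import Mathlib
import Cfsg.Agent.Lib.GL.Count
import Cfsg.Agent.Lib.Forms.WittMatrix

/-!
Symplectic bases of non-degenerate alternating forms, and the order of the symplectic group.
-/

set_option autoImplicit false

open Module Matrix

namespace Cfsg.Agent.Lib.GL.Alt

open Cfsg.Agent.Lib.GL.Count Cfsg.Agent.Lib.Forms

variable {F : Type*} [Field F] {V : Type*} [AddCommGroup V] [Module F V]

/-- A symplectic family `x i, y i`. -/
structure IsFam (B : LinearMap.BilinForm F V) {k : ℕ} (x y : Fin k → V) : Prop where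
  xx : ∀ i j, B (x i) (x j) = 0
  yy : ∀ i j, B (y i) (y j) = 0
  yx : ∀ i j, B (y i) (x j) = if i = j then 1 else 0

/-- Coordinates with respect to a symplectic family. -/
def coord (B : LinearMap.BilinForm F V) {k : ℕ} (x y : Fin k → V) :
    V →ₗ[F] (Fin k ⊕ Fin k → F) :=
  LinearMap.pi (Sum.elim (fun i => B (y i)) (fun i => -B (x i)))

@[simp] theorem coord_inl (B : LinearMap.BilinForm F V) {k : ℕ} (x y : Fin k → V) (v : V) (i : Fin k) :
    coord B x y v (.inl i) = B (y i) v := rfl

@[simp] theorem coord_inr (B : LinearMap.BilinForm F V) {k : ℕ} (x y : Fin k → V) (v : V) (i : Fin k) :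
    coord B x y v (.inr i) = -B (x i) v := rfl

/-- Linear combinations of a symplectic family. -/
def comb (F : Type*) [Field F] {V : Type*} [AddCommGroup V] [Module F V] {k : ℕ} (x y : Fin k → V) :
    (Fin k ⊕ Fin k → F) →ₗ[F] V :=
  Fintype.linearCombination F (Sum.elim x y)

theorem comb_apply {k : ℕ} (x y : Fin k → V) (c : Fin k ⊕ Fin k → F) :
    comb F x y c = ∑ i, c (.inl i) • x i + ∑ i, c (.inr i) • y i := by
  simp [comb, Fintype.linearCombination_apply, Fintype.sum_sum_type]

theorem mem_ker_coord {B : LinearMap.BilinForm F V} {k : ℕ} {x y : Fin k → V} {v : V} :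
    v ∈ LinearMap.ker (coord B x y) ↔ (∀ i, B (x i) v = 0) ∧ ∀ i, B (y i) v = 0 := by
  rw [LinearMap.mem_ker, funext_iff, Sum.forall]
  simp [and_comm]

variable {B : LinearMap.BilinForm F V}

theorem IsFam.coord_comb (hA : B.IsAlt) {k : ℕ} {x y : Fin k → V} (h : IsFam B x y)
    (c : Fin k ⊕ Fin k → F) : coord B x y (comb F x y c) = c := by
  have hxy : ∀ i j, B (x i) (y j) = -(if j = i then 1 else 0) := fun i j => by
    rw [← h.yx, hA.neg_eq]
  ext (i | i)
  · simp [comb_apply, h.yy, h.yx]
  · simp [comb_apply, h.xx, hxy]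

theorem IsFam.coord_surjective (hA : B.IsAlt) {k : ℕ} {x y : Fin k → V} (h : IsFam B x y) :
    Function.Surjective (coord B x y) := fun c => ⟨_, h.coord_comb hA c⟩

theorem IsFam.finrank_ker [FiniteDimensional F V] (hA : B.IsAlt) {k : ℕ} {x y : Fin k → V}
    (h : IsFam B x y) : finrank F (LinearMap.ker (coord B x y)) + 2 * k = finrank F V := by
  have := (coord B x y).finrank_range_add_finrank_ker
  rw [LinearMap.range_eq_top.2 (h.coord_surjective hA)] at this
  simp at this
  omega

theorem IsFam.proj_mem (hA : B.IsAlt) {k : ℕ} {x y : Fin k → V} (h : IsFam B x y) (v : V) :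
    v - comb F x y (coord B x y v) ∈ LinearMap.ker (coord B x y) := by
  rw [LinearMap.mem_ker, map_sub, h.coord_comb hA, sub_self]

theorem apply_comb_left {k : ℕ} (x y : Fin k → V) (c : Fin k ⊕ Fin k → F) (v : V) :
    B (comb F x y c) v = Cfsg.sympForm k F c (coord B x y v) := by
  rw [sympForm_apply]
  simp [comb_apply, Finset.sum_add_distrib, add_comm]

theorem IsFam.exists_partner (hA : B.IsAlt) (hB : B.Nondegenerate) {k : ℕ} {x y : Fin k → V}
    (h : IsFam B x y) {u : V} (hu : u ∈ LinearMap.ker (coord B x y)) (hu0 : u ≠ 0) :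
    ∃ w ∈ LinearMap.ker (coord B x y), B w u = 1 := by
  obtain ⟨v, hv⟩ : ∃ v, B v u ≠ 0 := by
    by_contra hne
    push Not at hne
    exact hu0 (hB.2 u hne)
  refine ⟨(B v u)⁻¹ • (v - comb F x y (coord B x y v)), Submodule.smul_mem _ _ (h.proj_mem hA v), ?_⟩
  have : B (comb F x y (coord B x y v)) u = 0 := by
    rw [apply_comb_left, LinearMap.mem_ker.1 hu]
    simp [Cfsg.sympForm]
  simp [this, hv]

theorem isFam_snoc_iff (hA : B.IsAlt) {k : ℕ} {x y : Fin k → V} {u w : V} :
    IsFam B (Fin.snoc x u : Fin (k + 1) → V) (Fin.snoc y w : Fin (k + 1) → V) ↔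
      IsFam B x y ∧ u ∈ LinearMap.ker (coord B x y) ∧ w ∈ LinearMap.ker (coord B x y) ∧ B w u = 1 := by
  simp only [mem_ker_coord]
  constructor
  · intro h
    refine ⟨⟨fun i j => ?_, fun i j => ?_, fun i j => ?_⟩, ⟨fun i => ?_, fun i => ?_⟩,
      ⟨fun i => ?_, fun i => ?_⟩, ?_⟩
    · simpa using h.xx i.castSucc j.castSucc
    · simpa using h.yy i.castSucc j.castSucc
    · simpa using h.yx i.castSucc j.castSucc
    · simpa using h.xx i.castSucc (Fin.last k)
    · simpa [Fin.castSucc_ne_last] using h.yx i.castSucc (Fin.last k)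
    · rw [← hA.neg_eq, neg_eq_zero]
      simpa [(Fin.castSucc_ne_last i).symm] using h.yx (Fin.last k) i.castSucc
    · simpa using h.yy i.castSucc (Fin.last k)
    · simpa using h.yx (Fin.last k) (Fin.last k)
  · rintro ⟨h, ⟨h1, h2⟩, ⟨h3, h4⟩, h5⟩
    have h1' : ∀ i, B u (x i) = 0 := fun i => by rw [← hA.neg_eq, h1, neg_zero]
    have h3' : ∀ i, B w (x i) = 0 := fun i => by rw [← hA.neg_eq, h3, neg_zero]
    have h4' : ∀ i, B w (y i) = 0 := fun i => by rw [← hA.neg_eq, h4, neg_zero]
    refine ⟨fun i j => ?_, fun i j => ?_, fun i j => ?_⟩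
    · induction i using Fin.lastCases <;> induction j using Fin.lastCases <;>
        simp [hA.self_eq_zero, h1, h1', h.xx]
    · induction i using Fin.lastCases <;> induction j using Fin.lastCases <;>
        simp [hA.self_eq_zero, h4, h4', h.yy]
    · induction i using Fin.lastCases <;> induction j using Fin.lastCases <;>
        simp [h2, h3', h5, h.yx, Fin.castSucc_ne_last, (Fin.castSucc_ne_last _).symm]

theorem exists_isFam_ker_eq_bot [FiniteDimensional F V] (hA : B.IsAlt) (hB : B.Nondegenerate) :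
    ∃ (k : ℕ) (x y : Fin k → V), IsFam B x y ∧ LinearMap.ker (coord B x y) = ⊥ := by
  by_contra hne
  push Not at hne
  have : ∀ k : ℕ, ∃ x y : Fin k → V, IsFam B x y := by
    intro k
    induction k with
    | zero => exact ⟨Fin.elim0, Fin.elim0, fun i => i.elim0, fun i => i.elim0, fun i => i.elim0⟩
    | succ k ih =>
      obtain ⟨x, y, h⟩ := ih
      obtain ⟨u, hu, hu0⟩ := Submodule.exists_mem_ne_zero_of_ne_bot (hne k x y h)
      obtain ⟨w, hw, hw'⟩ := h.exists_partner hA hB hu hu0
      exact ⟨_, _, (isFam_snoc_iff hA).2 ⟨h, hu, hw, hw'⟩⟩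
  obtain ⟨x, y, h⟩ := this (finrank F V + 1)
  have := h.finrank_ker hA
  omega

/-- **Symplectic bases**: a non-degenerate alternating form is isometric to the standard one. -/
theorem exists_equiv_sympForm [FiniteDimensional F V] (hA : B.IsAlt) (hB : B.Nondegenerate) :
    ∃ (m : ℕ) (e : V ≃ₗ[F] (Fin m ⊕ Fin m → F)), ∀ u v, B u v = Cfsg.sympForm m F (e u) (e v) := by
  obtain ⟨k, x, y, h, hker⟩ := exists_isFam_ker_eq_bot hA hB
  refine ⟨k, LinearEquiv.ofBijective (coord B x y)
    ⟨LinearMap.ker_eq_bot.1 hker, h.coord_surjective hA⟩, fun u v => ?_⟩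
  have h1 := h.proj_mem hA u
  rw [hker, Submodule.mem_bot, sub_eq_zero] at h1
  conv_lhs => rw [h1]
  rw [apply_comb_left]
  rfl

theorem exists_equiv_sympForm_of_finrank [FiniteDimensional F V] (hA : B.IsAlt)
    (hB : B.Nondegenerate) {m : ℕ} (hm : finrank F V = 2 * m) :
    ∃ e : V ≃ₗ[F] (Fin m ⊕ Fin m → F), ∀ u v, B u v = Cfsg.sympForm m F (e u) (e v) := by
  obtain ⟨k, e, he⟩ := exists_equiv_sympForm hA hB
  have := e.finrank_eq
  simp at this
  obtain rfl : k = m := by omega
  exact ⟨e, he⟩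

theorem even_finrank [FiniteDimensional F V] (hA : B.IsAlt) (hB : B.Nondegenerate) :
    Even (finrank F V) := by
  obtain ⟨k, e, -⟩ := exists_equiv_sympForm hA hB
  have := e.finrank_eq
  simp at this
  exact ⟨k, this⟩

/-- Two non-degenerate alternating spaces of the same dimension are isometric. -/
theorem exists_isometry [FiniteDimensional F V] (hA : B.IsAlt) (hB : B.Nondegenerate)
    {W : Type*} [AddCommGroup W] [Module F W] [FiniteDimensional F W] {B' : LinearMap.BilinForm F W}
    (hA' : B'.IsAlt) (hB' : B'.Nondegenerate) (h : finrank F V = finrank F W) :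
    ∃ e : V ≃ₗ[F] W, ∀ u v, B' (e u) (e v) = B u v := by
  obtain ⟨m, hm⟩ := even_finrank hA hB
  obtain ⟨e, he⟩ := exists_equiv_sympForm_of_finrank hA hB (m := m) (by omega)
  obtain ⟨e', he'⟩ := exists_equiv_sympForm_of_finrank hA' hB' (m := m) (by omega)
  exact ⟨e.trans e'.symm, fun u v => by simp [he, he']⟩

/-- The standard symplectic form as a bilinear form. -/
noncomputable def sympBilin (m : ℕ) (F : Type*) [Field F] :
    LinearMap.BilinForm F (Fin m ⊕ Fin m → F) :=
  Matrix.toBilin' (Matrix.J (Fin m) F)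

theorem sympBilin_apply {m : ℕ} (u v : Fin m ⊕ Fin m → F) :
    sympBilin m F u v = Cfsg.sympForm m F u v := by
  rw [sympBilin, Matrix.toBilin'_apply']; rfl

theorem sympBilin_isAlt (m : ℕ) : (sympBilin m F).IsAlt := fun v => by
  rw [sympBilin_apply, sympForm_apply]
  exact Finset.sum_eq_zero fun i _ => by ring

theorem sympBilin_nondegenerate (m : ℕ) : (sympBilin m F).Nondegenerate := by
  have h : ∀ v, (∀ u, sympBilin m F u v = 0) → v = 0 := fun v hv =>
    (isWittForm_symp (F := F) m).nondeg v fun u => by rw [← sympBilin_apply, hv]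
  exact ⟨fun v hv => h v fun u => by rw [← (sympBilin_isAlt m).neg_eq, hv, neg_zero], h⟩

section Card

variable [Fintype F]

theorem card_affine_hyperplane {W : Type*} [AddCommGroup W] [Module F W] [FiniteDimensional F W]
    (l : W →ₗ[F] F) (hl : ∃ w, l w = 1) :
    Nat.card {w : W // l w = 1} = Fintype.card F ^ (finrank F W - 1) := by
  obtain ⟨w₀, hw₀⟩ := hl
  have e : {w : W // l w = 1} ≃ LinearMap.ker l :=
    { toFun := fun w => ⟨w.1 - w₀, by simp [w.2, hw₀]⟩
      invFun := fun w => ⟨w.1 + w₀, by simp [LinearMap.mem_ker.1 w.2, hw₀]⟩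
      left_inv := fun w => by simp
      right_inv := fun w => by simp }
  have h1 := l.finrank_range_add_finrank_ker
  have h2 : LinearMap.range l = ⊤ := by
    rw [eq_top_iff]
    intro c _
    exact ⟨c • w₀, by simp [hw₀]⟩
  rw [h2, finrank_top, finrank_self] at h1
  rw [Nat.card_congr e, Module.natCard_eq_pow_finrank (K := F), Nat.card_eq_fintype_card]
  congr 1
  omega

theorem card_isFam [FiniteDimensional F V] (hA : B.IsAlt) (hB : B.Nondegenerate) (k : ℕ)
    (hk : 2 * k ≤ finrank F V) :
    Nat.card {z : (Fin k → V) × (Fin k → V) // IsFam B z.1 z.2} =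
      ∏ i ∈ Finset.range k, ((Fintype.card F ^ (finrank F V - 2 * i) - 1) *
        Fintype.card F ^ (finrank F V - 2 * i - 1)) := by
  have : Finite V := Module.finite_of_finite F
  induction k with
  | zero =>
    rw [Finset.prod_range_zero, Nat.card_eq_one_iff_exists]
    exact ⟨⟨(Fin.elim0, Fin.elim0), fun i => i.elim0, fun i => i.elim0, fun i => i.elim0⟩,
      fun z => Subtype.ext (Subsingleton.elim _ _)⟩
  | succ k ih =>
    rw [Finset.prod_range_succ, ← ih (by omega)]
    have hq : 1 < Fintype.card F := Fintype.one_lt_card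
    have hinit : ∀ z : {z : (Fin (k + 1) → V) × (Fin (k + 1) → V) // IsFam B z.1 z.2},
        IsFam B (Fin.init z.1.1) (Fin.init z.1.2) ∧
          z.1.1 (Fin.last k) ∈ LinearMap.ker (coord B (Fin.init z.1.1) (Fin.init z.1.2)) ∧
          z.1.2 (Fin.last k) ∈ LinearMap.ker (coord B (Fin.init z.1.1) (Fin.init z.1.2)) ∧
          B (z.1.2 (Fin.last k)) (z.1.1 (Fin.last k)) = 1 := fun z =>
      (isFam_snoc_iff hA).1 (by rw [Fin.snoc_init_self, Fin.snoc_init_self]; exact z.2)
    refine card_eq_mul_of_fiber_card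
      (fun z => (⟨(Fin.init z.1.1, Fin.init z.1.2), (hinit z).1⟩ :
        {z : (Fin k → V) × (Fin k → V) // IsFam B z.1 z.2})) _ ?_ ?_
    · refine mul_ne_zero ?_ (pow_ne_zero _ (by omega))
      have := Nat.one_lt_pow (n := finrank F V - 2 * k) (by omega) hq
      omega
    rintro ⟨⟨x, y⟩, h⟩
    simp only at h
    set W := LinearMap.ker (coord B x y) with hW
    have hWd : finrank F W = finrank F V - 2 * k := by
      have := h.finrank_ker hA
      rw [← hW] at this
      omega
    have e : {z : {z : (Fin (k + 1) → V) × (Fin (k + 1) → V) // IsFam B z.1 z.2} //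
        (⟨(Fin.init z.1.1, Fin.init z.1.2), (hinit z).1⟩ :
          {z : (Fin k → V) × (Fin k → V) // IsFam B z.1 z.2}) = ⟨(x, y), h⟩} ≃
        {p : W × W // B p.2 p.1 = 1} :=
      { toFun := fun z => ⟨(⟨z.1.1.1 (Fin.last k), by
            obtain ⟨z, hz⟩ := z
            simp only [Subtype.mk.injEq, Prod.mk.injEq] at hz
            have := (hinit z).2.1
            rwa [hz.1, hz.2] at this⟩, ⟨z.1.1.2 (Fin.last k), by
            obtain ⟨z, hz⟩ := z
            simp only [Subtype.mk.injEq, Prod.mk.injEq] at hz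
            have := (hinit z).2.2.1
            rwa [hz.1, hz.2] at this⟩), (hinit z.1).2.2.2⟩
        invFun := fun p => ⟨⟨(Fin.snoc x p.1.1, Fin.snoc y p.1.2),
          (isFam_snoc_iff hA).2 ⟨h, p.1.1.2, p.1.2.2, p.2⟩⟩, by simp⟩
        left_inv := by
          rintro ⟨⟨⟨x', y'⟩, hz'⟩, hz⟩
          simp only [Subtype.mk.injEq, Prod.mk.injEq] at hz ⊢
          rw [← hz.1, ← hz.2, Fin.snoc_init_self, Fin.snoc_init_self]
          exact ⟨rfl, rfl⟩
        right_inv := fun p => by simp }
    rw [Nat.card_congr e]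
    have h2 : Nat.card {u : W // u ≠ 0} = Fintype.card F ^ (finrank F V - 2 * k) - 1 := by
      classical
      let : Fintype W := Fintype.ofFinite W
      rw [Nat.card_eq_fintype_card, Fintype.card_subtype_compl, Fintype.card_subtype_eq,
        Module.card_eq_pow_finrank (K := F), hWd]
    rw [← h2]
    refine card_eq_mul_of_fiber_card (fun p => (⟨p.1.1, by
      rintro h0
      have := p.2
      rw [h0] at this
      simp at this⟩ : {u : W // u ≠ 0})) _ (pow_ne_zero _ (by omega)) ?_
    rintro ⟨u, hu⟩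
    obtain ⟨w, hw, hw'⟩ := h.exists_partner hA hB u.2 (fun h0 => hu (Subtype.ext h0))
    rw [← hWd, ← card_affine_hyperplane ((B.flip u).comp W.subtype) ⟨⟨w, hw⟩, hw'⟩]
    exact Nat.card_congr
      { toFun := fun p => ⟨p.1.1.2, by
          obtain ⟨p, hp⟩ := p
          simp only [Subtype.mk.injEq] at hp
          have := p.2
          rwa [hp] at this⟩
        invFun := fun w => ⟨⟨(u, w.1), w.2⟩, rfl⟩
        left_inv := by
          rintro ⟨⟨⟨u', w'⟩, hp'⟩, hp⟩
          simp only [Subtype.mk.injEq] at hp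
          subst hp
          rfl
        right_inv := fun w => rfl }

/-- The order of `Sp_{2m}(q)` as a function of `m` and `q`. -/
def spOrder (q m : ℕ) : ℕ := q ^ (m ^ 2) * ∏ i : Fin m, (q ^ (2 * ((i : ℕ) + 1)) - 1)

theorem spOrder_succ (q m : ℕ) :
    spOrder q (m + 1) = (q ^ (2 * (m + 1)) - 1) * q ^ (2 * m + 1) * spOrder q m := by
  rw [spOrder, spOrder, Fin.prod_univ_castSucc]
  simp only [Fin.val_castSucc, Fin.val_last]
  rw [show (m + 1) ^ 2 = (2 * m + 1) + m ^ 2 by ring, pow_add]
  ring

theorem prod_eq_spOrder (q m : ℕ) :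
    ∏ i ∈ Finset.range m, ((q ^ (2 * m - 2 * i) - 1) * q ^ (2 * m - 2 * i - 1)) = spOrder q m := by
  induction m with
  | zero => simp [spOrder]
  | succ m ih =>
    rw [Finset.prod_range_succ', spOrder_succ, ← ih, mul_comm]
    congr 1
    refine Finset.prod_congr rfl fun i _ => ?_
    rw [show 2 * (m + 1) - 2 * (i + 1) = 2 * m - 2 * i by omega]

/-- **The order of the symplectic group.** -/
theorem card_symplecticGroup (m : ℕ) :
    Nat.card (Matrix.symplecticGroup (Fin m) F) = spOrder (Fintype.card F) m := by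
  have hd : finrank F (Fin m ⊕ Fin m → F) = 2 * m := by simp; ring
  have h := card_isFam (sympBilin_isAlt (F := F) m) (sympBilin_nondegenerate m) m hd.ge
  rw [hd, prod_eq_spOrder] at h
  rw [← h]
  have key : ∀ A : Matrix (Fin m ⊕ Fin m) (Fin m ⊕ Fin m) F, A ∈ Matrix.symplecticGroup (Fin m) F ↔
      IsFam (sympBilin m F) (fun i a => A a (.inl i)) (fun i a => A a (.inr i)) := by
    intro A
    have h1 : ∀ a b, (Aᵀ * Matrix.J (Fin m) F * A) a b =
        sympBilin m F (fun c => A c a) (fun c => A c b) := by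
      intro a b
      rw [sympBilin, Matrix.toBilin'_apply', Matrix.mul_assoc]
      rfl
    rw [SymplecticGroup.mem_iff', ← Matrix.ext_iff]
    simp only [h1, Sum.forall]
    constructor
    · rintro ⟨h2, h3⟩
      exact ⟨fun i j => by simpa [Matrix.J] using (h2 i).1 j,
        fun i j => by simpa [Matrix.J] using (h3 i).2 j,
        fun i j => by simpa [Matrix.J, Matrix.one_apply] using (h3 i).1 j⟩
    · intro h2
      refine ⟨fun i => ⟨fun j => by simpa [Matrix.J] using h2.xx i j, fun j => ?_⟩,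
        fun i => ⟨fun j => by simpa [Matrix.J, Matrix.one_apply] using h2.yx i j,
          fun j => by simpa [Matrix.J] using h2.yy i j⟩⟩
      rw [← (sympBilin_isAlt m).neg_eq, h2.yx]
      simp [Matrix.J, Matrix.one_apply, eq_comm]
  exact Nat.card_congr
    { toFun := fun A => ⟨(fun i a => A.1 a (.inl i), fun i a => A.1 a (.inr i)), (key _).1 A.2⟩
      invFun := fun z => ⟨Matrix.of fun a => Sum.elim (fun i => z.1.1 i a) (fun i => z.1.2 i a),
        (key _).2 z.2⟩
      left_inv := fun A => by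
        ext a (i | i) <;> rfl
      right_inv := fun z => rfl }

end Card

end Cfsg.Agent.Lib.GL.Alt
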