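import Mathlib

/-!
Finite-dimensional `K[X]`-modules: they are classified by the dimensions of the kernels of the
polynomials.
-/

set_option autoImplicit false

open Polynomial Module

namespace Cfsg.Agent.Lib.GL.PolyMod

variable {K : Type*} [Field K]

section Defs

variable (M : Type*) [AddCommGroup M] [Module K M] [Module K[X] M] [IsScalarTower K K[X] M]

/-- The `K`-subspace killed by `f`. -/
noncomputable def tors (f : K[X]) : Submodule K M := (Submodule.torsionBy K[X] M f).restrictScalars K

variable {M} in
theorem mem_tors {f : K[X]} {v : M} : v ∈ tors M f ↔ f • v = 0 := Iff.rfl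

/-- The dimension of the subspace killed by `f`. -/
noncomputable def kd (f : K[X]) : ℕ := finrank K (tors M f)

theorem kd_zero : kd M (0 : K[X]) = finrank K M := by
  have : tors M (0 : K[X]) = ⊤ := by ext v; simp [mem_tors]
  rw [kd, this, finrank_top]

theorem kd_eq_finrank_iff [FiniteDimensional K M] (f : K[X]) :
    kd M f = finrank K M ↔ f ∈ Module.annihilator K[X] M := by
  rw [Module.mem_annihilator]
  constructor
  · intro h v
    have : tors M f = ⊤ := Submodule.eq_top_of_finrank_eq h
    exact mem_tors.1 (this ▸ Submodule.mem_top)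
  · intro h
    have : tors M f = ⊤ := eq_top_iff.2 fun v _ => h v
    rw [kd, this, finrank_top]

variable {M}
variable {N : Type*} [AddCommGroup N] [Module K N] [Module K[X] N] [IsScalarTower K K[X] N]

theorem kd_congr (e : M ≃ₗ[K[X]] N) (f : K[X]) : kd M f = kd N f := by
  have : (tors M f).map (e.restrictScalars K : M →ₗ[K] N) = tors N f := by
    ext w
    obtain ⟨v, rfl⟩ := e.surjective w
    simp only [Submodule.mem_map, mem_tors, ← map_smul, EmbeddingLike.map_eq_zero_iff]
    constructor
    · rintro ⟨y, hy, hy'⟩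
      have : y = v := e.injective hy'
      rwa [← this]
    · intro h; exact ⟨v, h, rfl⟩
  rw [kd, kd, ← this, LinearEquiv.finrank_map_eq]

theorem kd_prod [FiniteDimensional K M] [FiniteDimensional K N] (f : K[X]) :
    kd (M × N) f = kd M f + kd N f := by
  rw [kd, kd, kd, ← finrank_prod]
  refine LinearEquiv.finrank_eq
    { toFun := fun x => (⟨x.1.1, congrArg Prod.fst x.2⟩, ⟨x.1.2, congrArg Prod.snd x.2⟩)
      invFun := fun y => ⟨(y.1.1, y.2.1), Prod.ext y.1.2 y.2.2⟩
      map_add' := fun _ _ => rfl
      map_smul' := fun _ _ => rfl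
      left_inv := fun _ => rfl
      right_inv := fun _ => rfl }

theorem kd_pi {ι : Type*} [Fintype ι] (P : ι → Type*) [∀ i, AddCommGroup (P i)]
    [∀ i, Module K (P i)] [∀ i, Module K[X] (P i)] [∀ i, IsScalarTower K K[X] (P i)]
    [∀ i, FiniteDimensional K (P i)] (f : K[X]) :
    kd (∀ i, P i) f = ∑ i, kd (P i) f := by
  simp only [kd]
  rw [← Module.finrank_pi_fintype]
  refine LinearEquiv.finrank_eq
    { toFun := fun x i => ⟨x.1 i, congrFun x.2 i⟩
      invFun := fun y => ⟨fun i => (y i).1, funext fun i => (y i).2⟩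
      map_add' := fun _ _ => rfl
      map_smul' := fun _ _ => rfl
      left_inv := fun _ => rfl
      right_inv := fun _ => rfl }

end Defs

theorem finiteDimensional_quot {m : K[X]} (hm : m ≠ 0) :
    FiniteDimensional K (K[X] ⧸ Ideal.span {m}) :=
  (AdjoinRoot.powerBasis hm).finite

open Classical in
theorem kd_quot {m : K[X]} (hm : m ≠ 0) (f : K[X]) :
    kd (K[X] ⧸ Ideal.span {m}) f = (EuclideanDomain.gcd f m).natDegree := by
  set g := EuclideanDomain.gcd f m with hg
  obtain ⟨m', hm'⟩ : g ∣ m := EuclideanDomain.gcd_dvd_right f m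
  obtain ⟨f', hf'⟩ : g ∣ f := EuclideanDomain.gcd_dvd_left f m
  have hg0 : g ≠ 0 := by rintro h; rw [h, zero_mul] at hm'; exact hm hm'
  have hm'0 : m' ≠ 0 := by rintro h; rw [h, mul_zero] at hm'; exact hm hm'
  let ψ : K[X] →ₗ[K[X]] (K[X] ⧸ Ideal.span {m}) :=
    LinearMap.toSpanSingleton K[X] _ (Ideal.Quotient.mk _ m')
  have hψ : ∀ r, ψ r = Ideal.Quotient.mk _ (r * m') := fun r => rfl
  have hker : LinearMap.ker ψ = Ideal.span {g} := by
    ext r
    rw [LinearMap.mem_ker, hψ, Ideal.Quotient.eq_zero_iff_mem, Ideal.mem_span_singleton,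
      Ideal.mem_span_singleton, hm', mul_dvd_mul_iff_right hm'0]
  have hrange : (LinearMap.range ψ).restrictScalars K = tors (K[X] ⧸ Ideal.span {m}) f := by
    ext x
    obtain ⟨x, rfl⟩ := Ideal.Quotient.mk_surjective x
    rw [mem_tors]
    change _ ↔ Ideal.Quotient.mk _ (f * x) = 0
    rw [Ideal.Quotient.eq_zero_iff_mem, Ideal.mem_span_singleton]
    constructor
    · rintro ⟨r, hr⟩
      rw [hψ, Ideal.Quotient.eq, Ideal.mem_span_singleton] at hr
      have : f * x = f' * r * m - f * (r * m' - x) := by rw [hf', hm']; ring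
      rw [this]
      exact dvd_sub (Dvd.intro_left _ rfl) (hr.mul_left f)
    · intro h
      have hb := EuclideanDomain.gcd_eq_gcd_ab f m
      rw [← hg] at hb
      have h1 : m ∣ g * x := by
        rw [hb, add_mul]
        refine dvd_add ?_ ?_
        · rw [mul_right_comm]; exact h.mul_right _
        · rw [mul_assoc]; exact Dvd.intro _ rfl
      rw [hm', mul_dvd_mul_iff_left hg0] at h1
      obtain ⟨r, rfl⟩ := h1
      exact ⟨r, by rw [hψ, mul_comm]⟩
  rw [kd, ← hrange, ← finrank_quotient_span_eq_natDegree, ← hker]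
  exact ((ψ.quotKerEquivRange).restrictScalars K).finrank_eq.symm

section Main

variable (M : Type*) [AddCommGroup M] [Module K M] [Module K[X] M] [IsScalarTower K K[X] M]
  [FiniteDimensional K M]

theorem annihilator_ne_bot : Module.annihilator K[X] M ≠ ⊥ := by
  intro h
  have : Module.Finite K[X] M := Module.Finite.of_restrictScalars_finite K _ _
  obtain ⟨v, hv⟩ := Module.exists_ker_toSpanSingleton_eq_annihilator (R := K[X]) (M := M)
  rw [h, LinearMap.ker_eq_bot] at hv
  have : FiniteDimensional K K[X] :=
    FiniteDimensional.of_injective ((LinearMap.toSpanSingleton K[X] M v).restrictScalars K) hv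
  exact Polynomial.not_finite this

/-- A cyclic summand whose order is the minimal polynomial. -/
theorem exists_cyclic_summand : ∃ (m : K[X]) (N : Submodule K[X] M), m.Monic ∧
    Module.annihilator K[X] M = Ideal.span {m} ∧
    Nonempty (M ≃ₗ[K[X]] (K[X] ⧸ Ideal.span {m}) × N) := by
  classical
  have : Module.Finite K[X] M := Module.Finite.of_restrictScalars_finite K _ _
  obtain ⟨v, hv⟩ := Module.exists_ker_toSpanSingleton_eq_annihilator (R := K[X]) (M := M)
  obtain ⟨m0, hm0⟩ := (IsPrincipalIdealRing.principal (Module.annihilator K[X] M)).principal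
  have hm00 : m0 ≠ 0 := by
    rintro rfl
    exact annihilator_ne_bot M (by rw [hm0]; simp)
  set m := normalize m0 with hm
  have hmon : m.Monic := monic_normalize hm00
  have hann : Module.annihilator K[X] M = Ideal.span {m} := by
    rw [hm0]
    exact (Ideal.span_singleton_eq_span_singleton.2 (normalize_associated m0)).symm
  let ψ := LinearMap.toSpanSingleton K[X] M v
  have hker : LinearMap.ker ψ = Ideal.span {m} := hv.trans hann
  have := finiteDimensional_quot hmon.ne_zero
  -- the injective map from the quotient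
  let j : (K[X] ⧸ Ideal.span {m}) →ₗ[K[X]] M := (Ideal.span {m}).liftQ ψ hker.ge
  have hj : Function.Injective j := by
    rw [← LinearMap.ker_eq_bot]
    exact Submodule.ker_liftQ_eq_bot _ _ _ hker.le
  -- the functional on the quotient
  obtain ⟨sec, hsec⟩ : ∃ sec : (K[X] ⧸ Ideal.span {m}) →ₗ[K] K[X],
      ∀ g : K[X], sec (Ideal.Quotient.mk _ g) = g %ₘ m :=
    ⟨AdjoinRoot.modByMonicHom hmon, fun g => rfl⟩
  let lam : (K[X] ⧸ Ideal.span {m}) →ₗ[K] K :=
    (Polynomial.lcoeff K (m.natDegree - 1)).comp sec
  have hlam : ∀ g : K[X], lam (Ideal.Quotient.mk _ g) = (g %ₘ m).coeff (m.natDegree - 1) :=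
    fun g => by simp [lam, hsec]
  obtain ⟨s, hs⟩ := LinearMap.exists_leftInverse_of_injective (j.restrictScalars K)
    (LinearMap.ker_eq_bot.2 hj)
  have hs' : ∀ x, s (j x) = x := fun x => LinearMap.congr_fun hs x
  let φ : M →ₗ[K] K := lam.comp s
  let N : Submodule K[X] M :=
    { carrier := {w | ∀ r : K[X], φ (r • w) = 0}
      add_mem' := fun {a b} ha hb r => by rw [smul_add, map_add, ha r, hb r, add_zero]
      zero_mem' := fun r => by simp
      smul_mem' := fun c w hw r => by rw [smul_smul]; exact hw _ }
  have hnd : ∀ x : K[X] ⧸ Ideal.span {m}, (∀ r : K[X], lam (r • x) = 0) → x = 0 := by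
    intro x hx
    obtain ⟨g0, rfl⟩ := Ideal.Quotient.mk_surjective x
    have hg : Ideal.Quotient.mk (Ideal.span {m}) g0 = Ideal.Quotient.mk _ (g0 %ₘ m) := by
      rw [Ideal.Quotient.eq, Ideal.mem_span_singleton]
      exact ⟨g0 /ₘ m, by rw [sub_eq_iff_eq_add', modByMonic_add_div g0 m]⟩
    rw [hg] at hx ⊢
    have hdeg := degree_modByMonic_lt g0 hmon
    generalize g0 %ₘ m = g at hx hdeg ⊢
    by_contra hne
    have hg0 : g ≠ 0 := by rintro rfl; exact hne (map_zero _)
    have hlt : g.natDegree < m.natDegree := natDegree_lt_natDegree hg0 hdeg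
    have h1 := hx (X ^ (m.natDegree - 1 - g.natDegree))
    change lam (Ideal.Quotient.mk _ (_ * g)) = 0 at h1
    have h2 : (X ^ (m.natDegree - 1 - g.natDegree) * g).natDegree = m.natDegree - 1 := by
      rw [natDegree_X_pow_mul _ hg0]; omega
    rw [hlam, (modByMonic_eq_self_iff hmon).2 (degree_lt_degree (by omega))] at h1
    have h3 : leadingCoeff (X ^ (m.natDegree - 1 - g.natDegree) * g) = 0 := by
      rw [leadingCoeff, h2, h1]
    simp [hg0] at h3
  let Φ : M →ₗ[K] Module.Dual K (K[X] ⧸ Ideal.span {m}) :=
    { toFun := fun w => (φ.comp ((LinearMap.toSpanSingleton K[X] M w).restrictScalars K)).comp sec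
      map_add' := fun a b => LinearMap.ext fun x => by simp
      map_smul' := fun c a => LinearMap.ext fun x => by
        simp only [LinearMap.comp_apply, LinearMap.restrictScalars_apply,
          LinearMap.toSpanSingleton_apply, RingHom.id_apply, LinearMap.smul_apply]
        rw [smul_comm, map_smul] }
  have hΦ : ∀ w r, Φ w (Ideal.Quotient.mk _ r) = φ (r • w) := by
    intro w r
    change φ (sec (Ideal.Quotient.mk _ r) • w) = _
    rw [hsec]
    have : m • w = 0 := Module.mem_annihilator.1 (hann ▸ Ideal.mem_span_singleton_self m) w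
    conv_rhs => rw [← modByMonic_add_div r m, add_smul, mul_comm, mul_smul, this, smul_zero, add_zero]
  have hkerΦ : LinearMap.ker Φ = N.restrictScalars K := by
    ext w
    constructor
    · intro hw r
      rw [← hΦ, LinearMap.mem_ker.1 hw, LinearMap.zero_apply]
    · intro hw
      rw [LinearMap.mem_ker]
      refine LinearMap.ext fun x => ?_
      obtain ⟨r, rfl⟩ := Ideal.Quotient.mk_surjective x
      rw [hΦ]; exact hw r
  let c : ((K[X] ⧸ Ideal.span {m}) × N) →ₗ[K[X]] M := j.coprod N.subtype
  have hcinj : Function.Injective c := by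
    rw [injective_iff_map_eq_zero]
    rintro ⟨x, w⟩ h
    have h1 : j x = -(w : M) := eq_neg_of_add_eq_zero_left h
    have h2 : x = 0 := hnd x fun r => by
      have := (N.neg_mem w.2) r
      rw [← h1, ← map_smul] at this
      rw [← hs' (r • x)]
      exact this
    subst h2
    have : (w : M) = 0 := by simpa using h1.symm
    ext <;> simp [this]
  have hNfin : FiniteDimensional K N := inferInstanceAs (FiniteDimensional K (N.restrictScalars K))
  have hcsurj : Function.Surjective c := by
    have h1 := Φ.finrank_range_add_finrank_ker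
    have h2 := Submodule.finrank_le (LinearMap.range Φ)
    rw [Subspace.dual_finrank_eq] at h2
    rw [hkerΦ] at h1
    have h3 : finrank K ((K[X] ⧸ Ideal.span {m}) × N) =
        finrank K (K[X] ⧸ Ideal.span {m}) + finrank K (N.restrictScalars K) := finrank_prod
    have h4 := LinearMap.finrank_le_finrank_of_injective (f := c.restrictScalars K) hcinj
    exact (LinearMap.injective_iff_surjective_of_finrank_eq_finrank (f := c.restrictScalars K)
      (by omega)).1 hcinj
  exact ⟨m, N, hmon, hann, ⟨(LinearEquiv.ofBijective c ⟨hcinj, hcsurj⟩).symm⟩⟩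

theorem natDegree_pos_of_annihilator [Nontrivial M] {m : K[X]} (hm : m.Monic)
    (hann : Module.annihilator K[X] M = Ideal.span {m}) : 0 < m.natDegree := by
  by_contra h
  have h1 : m = 1 := hm.natDegree_eq_zero.1 (by omega)
  obtain ⟨v, hv⟩ := exists_ne (0 : M)
  have : m • v = 0 := Module.mem_annihilator.1 (hann ▸ Ideal.mem_span_singleton_self m) v
  rw [h1, one_smul] at this
  exact hv this

end Main

universe u v

theorem nonempty_equiv_aux (n : ℕ) : ∀ (M : Type u) [AddCommGroup M] [Module K M] [Module K[X] M]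
    [IsScalarTower K K[X] M] [FiniteDimensional K M]
    (N : Type v) [AddCommGroup N] [Module K N] [Module K[X] N]
    [IsScalarTower K K[X] N] [FiniteDimensional K N], finrank K M = n →
    (∀ f : K[X], kd M f = kd N f) → Nonempty (M ≃ₗ[K[X]] N) := by
  induction n using Nat.strong_induction_on with
  | _ n ih =>
  intro M _ _ _ _ _ N _ _ _ _ _ hn h
  have hMN : finrank K M = finrank K N := by rw [← kd_zero, ← kd_zero, h]
  rcases subsingleton_or_nontrivial M with hM | hM
  · have : Subsingleton N := by
      rw [← Module.finrank_zero_iff (R := K), ← hMN, Module.finrank_zero_iff]; exact hM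
    exact ⟨LinearEquiv.ofSubsingleton _ _⟩
  obtain ⟨m, M', hm, hann, ⟨e⟩⟩ := exists_cyclic_summand (K := K) M
  obtain ⟨m', N', hm', hann', ⟨e'⟩⟩ := exists_cyclic_summand (K := K) N
  have hspan : Ideal.span {m} = Ideal.span {m'} := by
    rw [← hann, ← hann']
    ext f
    rw [← kd_eq_finrank_iff, ← kd_eq_finrank_iff, h, hMN]
  have hmm : m = m' := eq_of_monic_of_associated hm hm' (Ideal.span_singleton_eq_span_singleton.1 hspan)
  subst hmm
  have := finiteDimensional_quot hm.ne_zero
  have hM'fin : FiniteDimensional K M' := inferInstanceAs (FiniteDimensional K (M'.restrictScalars K))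
  have hN'fin : FiniteDimensional K N' := inferInstanceAs (FiniteDimensional K (N'.restrictScalars K))
  have hlt : finrank K M' < n := by
    have h1 := (e.restrictScalars K).finrank_eq
    rw [finrank_prod, finrank_quotient_span_eq_natDegree] at h1
    have := natDegree_pos_of_annihilator M hm hann
    omega
  obtain ⟨e''⟩ := ih _ hlt M' N' rfl (fun f => by
    have h1 := h f
    rw [kd_congr e, kd_congr e', kd_prod, kd_prod] at h1
    omega)
  exact ⟨e.trans (((LinearEquiv.refl _ _).prodCongr e'').trans e'.symm)⟩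

/-- Finite-dimensional `K[X]`-modules with the same kernel dimensions are isomorphic. -/
theorem nonempty_equiv_of_kd_eq (M : Type u) [AddCommGroup M] [Module K M] [Module K[X] M]
    [IsScalarTower K K[X] M] [FiniteDimensional K M]
    (N : Type v) [AddCommGroup N] [Module K N] [Module K[X] N]
    [IsScalarTower K K[X] N] [FiniteDimensional K N]
    (h : ∀ f : K[X], kd M f = kd N f) : Nonempty (M ≃ₗ[K[X]] N) :=
  nonempty_equiv_aux _ M N rfl h

open Classical in
theorem exists_list_aux (n : ℕ) : ∀ (M : Type u) [AddCommGroup M] [Module K M] [Module K[X] M]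
    [IsScalarTower K K[X] M] [FiniteDimensional K M], finrank K M = n →
    ∃ L : List K[X], (∀ m ∈ L, m.Monic ∧ 0 < m.natDegree ∧
      ∀ P ∈ Module.annihilator K[X] M, m ∣ P) ∧
      ∀ f : K[X], kd M f = (L.map fun m => (EuclideanDomain.gcd f m).natDegree).sum := by
  induction n using Nat.strong_induction_on with
  | _ n ih =>
  intro M _ _ _ _ _ hn
  rcases subsingleton_or_nontrivial M with hM | hM
  · refine ⟨[], by simp, fun f => ?_⟩
    simp only [kd, List.map_nil, List.sum_nil]
    exact Module.finrank_zero_of_subsingleton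
  obtain ⟨m, M', hm, hann, ⟨e⟩⟩ := exists_cyclic_summand (K := K) M
  have := finiteDimensional_quot hm.ne_zero
  have hM'fin : FiniteDimensional K M' := inferInstanceAs (FiniteDimensional K (M'.restrictScalars K))
  have hpos := natDegree_pos_of_annihilator M hm hann
  have hlt : finrank K M' < n := by
    have h1 := (e.restrictScalars K).finrank_eq
    rw [finrank_prod, finrank_quotient_span_eq_natDegree] at h1
    omega
  obtain ⟨L, hL, hL'⟩ := ih _ hlt M' rfl
  refine ⟨m :: L, ?_, fun f => ?_⟩
  · intro a ha
    rcases List.mem_cons.1 ha with rfl | ha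
    · exact ⟨hm, hpos, fun P hP => Ideal.mem_span_singleton.1 (hann ▸ hP)⟩
    · refine ⟨(hL a ha).1, (hL a ha).2.1, fun P hP => (hL a ha).2.2 P ?_⟩
      rw [Module.mem_annihilator] at hP ⊢
      exact fun w => Subtype.ext (hP w)
  · rw [kd_congr e, kd_prod, kd_quot hm.ne_zero, hL', List.map_cons, List.sum_cons]

open Classical in
/-- The kernel dimensions are those of a direct sum of cyclic modules. -/
theorem exists_list (M : Type u) [AddCommGroup M] [Module K M] [Module K[X] M]
    [IsScalarTower K K[X] M] [FiniteDimensional K M] :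
    ∃ L : List K[X], (∀ m ∈ L, m.Monic ∧ 0 < m.natDegree ∧
      ∀ P ∈ Module.annihilator K[X] M, m ∣ P) ∧
      ∀ f : K[X], kd M f = (L.map fun m => (EuclideanDomain.gcd f m).natDegree).sum :=
  exists_list_aux _ M rfl

end Cfsg.Agent.Lib.GL.PolyMod
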