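import Mathlib
import Cfsg.Agent.Lib.GL.PolyModule

/-!
Similarity of endomorphisms and matrices over a field is decided by the dimensions of the kernels
of all polynomials in them.
-/

set_option autoImplicit false

open Polynomial Module Matrix

namespace Cfsg.Agent.Lib.GL.Sim

open Cfsg.Agent.Lib.GL.PolyMod

variable {K : Type*} [Field K]

section End

variable {V : Type*} [AddCommGroup V] [Module K V] {W : Type*} [AddCommGroup W] [Module K W]

/-- The dimension of the kernel of `f(T)`. -/
noncomputable def kdE (T : Module.End K V) (f : K[X]) : ℕ := finrank K (LinearMap.ker (aeval T f))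

theorem kd_aeval (T : Module.End K V) (f : K[X]) : kd (Module.AEval' T) f = kdE T f := by
  have : (LinearMap.ker (aeval T f)).map (Module.AEval'.of T : V →ₗ[K] Module.AEval' T) =
      tors (Module.AEval' T) f := by
    ext w
    obtain ⟨v, rfl⟩ := (Module.AEval'.of T).surjective w
    rw [mem_tors, ← Module.AEval.of_aeval_smul, EmbeddingLike.map_eq_zero_iff]
    constructor
    · rintro ⟨y, hy, hy'⟩
      have : y = v := (Module.AEval'.of T).injective hy'
      subst this
      exact hy
    · intro h; exact ⟨v, h, rfl⟩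
  rw [kd, kdE, ← this, LinearEquiv.finrank_map_eq]

theorem aeval_semiconj {T : Module.End K V} {S : Module.End K W} (e : V →ₗ[K] W)
    (he : ∀ v, e (T v) = S (e v)) (f : K[X]) (v : V) : e (aeval T f v) = aeval S f (e v) := by
  induction f using Polynomial.induction_on' generalizing v with
  | add p q hp hq => simp [hp, hq]
  | monomial n a =>
    simp only [aeval_monomial, Module.End.mul_apply, Module.algebraMap_end_apply, map_smul]
    congr 1
    induction n generalizing v with
    | zero => simp
    | succ n ih => rw [pow_succ, pow_succ, Module.End.mul_apply, Module.End.mul_apply, ih, he]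

theorem kdE_congr {T : Module.End K V} {S : Module.End K W} (e : V ≃ₗ[K] W)
    (he : ∀ v, e (T v) = S (e v)) (f : K[X]) : kdE T f = kdE S f := by
  have : (LinearMap.ker (aeval T f)).map (e : V →ₗ[K] W) = LinearMap.ker (aeval S f) := by
    ext w
    obtain ⟨v, rfl⟩ := e.surjective w
    have h1 := aeval_semiconj (e : V →ₗ[K] W) he f v
    simp only [LinearEquiv.coe_coe] at h1
    rw [LinearMap.mem_ker, ← h1, EmbeddingLike.map_eq_zero_iff]
    constructor
    · rintro ⟨y, hy, hy'⟩
      have : y = v := e.injective hy'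
      subst this
      exact hy
    · intro h; exact ⟨v, h, rfl⟩
  rw [kdE, kdE, ← this, LinearEquiv.finrank_map_eq]

/-- **Similarity criterion** for endomorphisms. -/
theorem exists_equiv_of_kdE_eq [FiniteDimensional K V] [FiniteDimensional K W]
    (T : Module.End K V) (S : Module.End K W) (h : ∀ f, kdE T f = kdE S f) :
    ∃ e : V ≃ₗ[K] W, ∀ v, e (T v) = S (e v) := by
  obtain ⟨e⟩ := nonempty_equiv_of_kd_eq (K := K) (Module.AEval' T) (Module.AEval' S)
    (fun f => by rw [kd_aeval, kd_aeval, h])
  refine ⟨(Module.AEval'.of T).trans ((e.restrictScalars K).trans (Module.AEval'.of S).symm),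
    fun v => ?_⟩
  simp only [LinearEquiv.trans_apply, LinearEquiv.restrictScalars_apply]
  rw [← Module.AEval'.X_smul_of, map_smul, Module.AEval'.of_symm_X_smul]

open Classical in
theorem exists_list_kdE [FiniteDimensional K V] (T : Module.End K V) :
    ∃ L : List K[X], (∀ m ∈ L, m.Monic ∧ 0 < m.natDegree ∧ ∀ P, aeval T P = 0 → m ∣ P) ∧
      ∀ f : K[X], kdE T f = (L.map fun m => (EuclideanDomain.gcd f m).natDegree).sum := by
  obtain ⟨L, hL, hL'⟩ := exists_list (K := K) (Module.AEval' T)
  refine ⟨L, fun m hm => ⟨(hL m hm).1, (hL m hm).2.1, fun P hP => (hL m hm).2.2 P ?_⟩,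
    fun f => by rw [← kd_aeval, hL']⟩
  rw [Module.AEval.annihilator_eq_ker_aeval]
  exact hP

theorem kdE_zero (T : Module.End K V) : kdE T 0 = finrank K V := by
  rw [kdE, map_zero, LinearMap.ker_zero, finrank_top]

theorem kdE_of_aeval_eq_zero {T : Module.End K V} {P : K[X]} (hP : aeval T P = 0) :
    kdE T P = finrank K V := by
  rw [kdE, hP, LinearMap.ker_zero, finrank_top]

theorem aeval_eq_zero_of_kdE [FiniteDimensional K V] {T : Module.End K V} {P : K[X]}
    (hP : kdE T P = finrank K V) : aeval T P = 0 :=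
  LinearMap.ker_eq_top.1 (Submodule.eq_top_of_finrank_eq hP)

theorem ker_aeval_mono (T : Module.End K V) {f g : K[X]} (h : f ∣ g) :
    LinearMap.ker (aeval T f) ≤ LinearMap.ker (aeval T g) := by
  obtain ⟨c, rfl⟩ := h
  intro v hv
  rw [LinearMap.mem_ker] at hv ⊢
  rw [mul_comm, map_mul, Module.End.mul_apply, hv, map_zero]

theorem ker_aeval_of_associated (T : Module.End K V) {f g : K[X]} (h : Associated f g) :
    LinearMap.ker (aeval T f) = LinearMap.ker (aeval T g) :=
  le_antisymm (ker_aeval_mono T h.dvd) (ker_aeval_mono T h.symm.dvd)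

theorem kdE_of_associated (T : Module.End K V) {f g : K[X]} (h : Associated f g) :
    kdE T f = kdE T g := by
  rw [kdE, kdE, ker_aeval_of_associated T h]

open Classical in
theorem ker_aeval_gcd {T : Module.End K V} {P : K[X]} (hP : aeval T P = 0) (f : K[X]) :
    LinearMap.ker (aeval T f) = LinearMap.ker (aeval T (EuclideanDomain.gcd f P)) := by
  refine le_antisymm (fun v hv => ?_) (ker_aeval_mono T (EuclideanDomain.gcd_dvd_left _ _))
  rw [LinearMap.mem_ker] at hv ⊢
  rw [EuclideanDomain.gcd_eq_gcd_ab, map_add, mul_comm f, map_mul, map_mul, hP, zero_mul, add_zero,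
    Module.End.mul_apply, hv, map_zero]

theorem kdE_mul_of_isCoprime [FiniteDimensional K V] (T : Module.End K V) {f g : K[X]}
    (h : IsCoprime f g) : kdE T (f * g) = kdE T f + kdE T g := by
  rw [kdE, kdE, kdE, ← sup_ker_aeval_eq_ker_aeval_mul_of_coprime T h,
    ← Submodule.finrank_sup_add_finrank_inf_eq, (disjoint_ker_aeval_of_isCoprime T h).eq_bot,
    finrank_bot, add_zero]

theorem kdE_of_isUnit (T : Module.End K V) {f : K[X]} (h : IsUnit f) : kdE T f = 0 := by
  rw [kdE_of_associated T (associated_one_iff_isUnit.2 h), kdE, map_one]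
  have : LinearMap.ker (1 : Module.End K V) = ⊥ := LinearMap.ker_id
  rw [this, finrank_bot]

theorem kdE_prod_of_pairwise_isCoprime [FiniteDimensional K V] (T : Module.End K V) {ι : Type*}
    (s : Finset ι) (f : ι → K[X]) (h : (s : Set ι).Pairwise (fun i j => IsCoprime (f i) (f j))) :
    kdE T (∏ i ∈ s, f i) = ∑ i ∈ s, kdE T (f i) := by
  classical
  induction s using Finset.induction_on with
  | empty => simp [kdE_of_isUnit]
  | insert a s ha ih =>
    rw [Finset.prod_insert ha, Finset.sum_insert ha, kdE_mul_of_isCoprime, ih (h.mono (by simp))]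
    refine IsCoprime.prod_right fun i hi => h (by simp) (by simp [hi]) ?_
    rintro rfl; exact ha hi

/-- It is enough to compare the kernel dimensions on the monic divisors of a common annihilating
polynomial. -/
theorem kdE_eq_of_dvd {T : Module.End K V} {S : Module.End K W} {P : K[X]} (hP0 : P ≠ 0)
    (hT : aeval T P = 0) (hS : aeval S P = 0)
    (h : ∀ g, g.Monic → g ∣ P → kdE T g = kdE S g) (f : K[X]) : kdE T f = kdE S f := by
  classical
  have h0 : EuclideanDomain.gcd f P ≠ 0 := fun h => hP0 (EuclideanDomain.gcd_eq_zero_iff.1 h).2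
  rw [kdE, kdE, ker_aeval_gcd hT, ker_aeval_gcd hS, ← kdE, ← kdE,
    ← kdE_of_associated T (normalize_associated _), ← kdE_of_associated S (normalize_associated _)]
  exact h _ (monic_normalize h0)
    ((normalize_associated _).dvd.trans (EuclideanDomain.gcd_dvd_right _ _))

/-- It is enough to compare the kernel dimensions on powers of monic irreducible polynomials
dividing a common annihilating polynomial. -/
theorem kdE_eq_of_primePow [FiniteDimensional K V] [FiniteDimensional K W]
    {T : Module.End K V} {S : Module.End K W} {P : K[X]} (hP0 : P ≠ 0)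
    (hT : aeval T P = 0) (hS : aeval S P = 0)
    (h : ∀ (p : K[X]) (j : ℕ), p.Monic → Irreducible p → p ^ j ∣ P → kdE T (p ^ j) = kdE S (p ^ j))
    (f : K[X]) : kdE T f = kdE S f := by
  classical
  suffices H : ∀ g, g ∣ P → kdE T g = kdE S g from kdE_eq_of_dvd hP0 hT hS (fun g _ hg => H g hg) f
  intro g hg
  induction g using UniqueFactorizationMonoid.induction_on_coprime with
  | h0 => exact absurd (zero_dvd_iff.1 hg) hP0
  | h1 hx => rw [kdE_of_isUnit T hx, kdE_of_isUnit S hx]
  | @hpr p i hp =>
    have ha : Associated (normalize p ^ i) (p ^ i) := (normalize_associated p).pow_pow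
    rw [← kdE_of_associated T ha, ← kdE_of_associated S ha]
    exact h _ _ (monic_normalize hp.ne_zero)
      ((normalize_associated p).symm.irreducible hp.irreducible) (ha.dvd.trans hg)
  | @hcp x y hxy hx hy =>
    rw [kdE_mul_of_isCoprime T hxy.isCoprime, kdE_mul_of_isCoprime S hxy.isCoprime,
      hx (dvd_of_mul_right_dvd hg), hy (dvd_of_mul_left_dvd hg)]

/-- For a squarefree annihilating polynomial it is enough to compare the kernel dimensions on its
monic irreducible factors. -/
theorem kdE_eq_of_squarefree [FiniteDimensional K V] [FiniteDimensional K W]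
    {T : Module.End K V} {S : Module.End K W} {P : K[X]} (hP : Squarefree P)
    (hT : aeval T P = 0) (hS : aeval S P = 0)
    (h : ∀ p : K[X], p.Monic → Irreducible p → p ∣ P → kdE T p = kdE S p)
    (f : K[X]) : kdE T f = kdE S f := by
  refine kdE_eq_of_primePow hP.ne_zero hT hS (fun p j hp hp' hj => ?_) f
  rcases j with _ | _ | j
  · simp [kdE_of_isUnit]
  · simpa using h p hp hp' (by simpa using hj)
  · exact absurd (hP p ((show p * p ∣ p ^ (j + 1 + 1) from ⟨p ^ j, by ring⟩).trans hj)) hp'.not_isUnit

/-- For `(T - c) ^ n = 0` it is enough to compare the kernel dimensions of the powers of `X - c`. -/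
theorem kdE_eq_of_pow_X_sub_C [FiniteDimensional K V] [FiniteDimensional K W]
    {T : Module.End K V} {S : Module.End K W} (c : K) {n : ℕ}
    (hT : aeval T ((X - C c) ^ n) = 0) (hS : aeval S ((X - C c) ^ n) = 0)
    (h : ∀ j ≤ n, kdE T ((X - C c) ^ j) = kdE S ((X - C c) ^ j))
    (f : K[X]) : kdE T f = kdE S f := by
  refine kdE_eq_of_dvd (pow_ne_zero n (X_sub_C_ne_zero c)) hT hS (fun g _ hg => ?_) f
  obtain ⟨j, hj, ha⟩ := (dvd_prime_pow (prime_X_sub_C c) n).1 hg
  rw [kdE_of_associated T ha, kdE_of_associated S ha, h j hj]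

theorem kdE_prodMap [FiniteDimensional K V] [FiniteDimensional K W] (T : Module.End K V)
    (S : Module.End K W) (f : K[X]) : kdE (T.prodMap S) f = kdE T f + kdE S f := by
  have h1 : ∀ x : V × W, aeval (T.prodMap S) f x = (aeval T f x.1, aeval S f x.2) := by
    intro x
    refine Prod.ext ?_ ?_
    · exact aeval_semiconj (T := T.prodMap S) (LinearMap.fst K V W) (fun v => rfl) f x
    · exact aeval_semiconj (T := T.prodMap S) (LinearMap.snd K V W) (fun v => rfl) f x
  rw [kdE, kdE, kdE, ← finrank_prod]
  refine LinearEquiv.finrank_eq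
    { toFun := fun x => (⟨x.1.1, congrArg Prod.fst ((h1 x.1).symm.trans x.2)⟩,
        ⟨x.1.2, congrArg Prod.snd ((h1 x.1).symm.trans x.2)⟩)
      invFun := fun y => ⟨(y.1.1, y.2.1), (h1 _).trans (Prod.ext y.1.2 y.2.2)⟩
      map_add' := fun _ _ => rfl
      map_smul' := fun _ _ => rfl
      left_inv := fun _ => rfl
      right_inv := fun _ => rfl }

/-- Multiplication by `X` on a `K[X]`-module. -/
noncomputable def mulX (K : Type*) [Field K] (M : Type*) [AddCommGroup M] [Module K M]
    [Module K[X] M] [IsScalarTower K K[X] M] : Module.End K M :=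
  (LinearMap.lsmul K[X] M X).restrictScalars K

theorem aeval_mulX {M : Type*} [AddCommGroup M] [Module K M] [Module K[X] M]
    [IsScalarTower K K[X] M] (f : K[X]) (v : M) : aeval (mulX K M) f v = f • v := by
  induction f using Polynomial.induction_on' generalizing v with
  | add p q hp hq => simp [hp, hq, add_smul]
  | monomial n a =>
    simp only [aeval_monomial, Module.End.mul_apply, Module.algebraMap_end_apply]
    rw [← C_mul_X_pow_eq_monomial, mul_smul, ← algebraMap_eq, algebraMap_smul]
    congr 1
    induction n generalizing v with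
    | zero => simp
    | succ n ih => rw [pow_succ, pow_succ, Module.End.mul_apply, ih, mul_smul]; rfl

theorem kdE_mulX {M : Type*} [AddCommGroup M] [Module K M] [Module K[X] M]
    [IsScalarTower K K[X] M] (f : K[X]) : kdE (mulX K M) f = kd M f := by
  have : LinearMap.ker (aeval (mulX K M) f) = tors M f := by
    ext v; rw [LinearMap.mem_ker, aeval_mulX, mem_tors]
  rw [kdE, kd, this]

end End

section Mat

variable {ι : Type*} [Fintype ι] [DecidableEq ι]

/-- The dimension of the kernel of `f(A)`. -/
noncomputable def kdM (A : Matrix ι ι K) (f : K[X]) : ℕ := kdE (Matrix.toLin' A) f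

theorem aeval_toLin' (A : Matrix ι ι K) (f : K[X]) :
    aeval (Matrix.toLin' A) f = Matrix.toLin' (aeval A f) :=
  aeval_algHom_apply (Matrix.toLinAlgEquiv' (R := K) (n := ι)) A f

theorem kdM_eq (A : Matrix ι ι K) (f : K[X]) :
    kdM A f = finrank K (LinearMap.ker (Matrix.toLin' (aeval A f))) := by
  rw [kdM, kdE, aeval_toLin']

theorem kdM_add_rank (A : Matrix ι ι K) (f : K[X]) :
    kdM A f + (aeval A f).rank = Fintype.card ι := by
  rw [kdM_eq, Matrix.rank, add_comm, Matrix.toLin'_apply', LinearMap.finrank_range_add_finrank_ker]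
  simp

theorem kdM_toMatrix {V : Type*} [AddCommGroup V] [Module K V] (b : Basis ι K V)
    (T : Module.End K V) (f : K[X]) : kdM (LinearMap.toMatrix b b T) f = kdE T f := by
  refine (kdE_congr b.equivFun (fun v => ?_) f).symm
  rw [Matrix.toLin'_apply, Basis.equivFun_apply, Basis.equivFun_apply, LinearMap.toMatrix_mulVec_repr]

theorem kdM_eq_of_mul_eq {A B : Matrix ι ι K} (P : GL ι K)
    (h : (P : Matrix ι ι K) * A = B * P) (f : K[X]) : kdM A f = kdM B f := by
  refine kdE_congr (Matrix.GeneralLinearGroup.toLin P).toLinearEquiv (fun v => ?_) f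
  change (P : Matrix ι ι K) *ᵥ (A *ᵥ v) = B *ᵥ ((P : Matrix ι ι K) *ᵥ v)
  rw [mulVec_mulVec, mulVec_mulVec, h]

theorem exists_gl_of_kdM_eq {A B : Matrix ι ι K} (h : ∀ f, kdM A f = kdM B f) :
    ∃ P : GL ι K, (P : Matrix ι ι K) * A = B * P := by
  obtain ⟨e, he⟩ := exists_equiv_of_kdE_eq _ _ h
  refine ⟨⟨LinearMap.toMatrix' (e : (ι → K) →ₗ[K] (ι → K)),
    LinearMap.toMatrix' (e.symm : (ι → K) →ₗ[K] (ι → K)), ?_, ?_⟩, ?_⟩
  · rw [← LinearMap.toMatrix'_comp]; simp
  · rw [← LinearMap.toMatrix'_comp]; simp
  · apply Matrix.toLin'.injective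
    refine LinearMap.ext fun v => ?_
    simpa using he v

/-- **Similarity criterion** for matrices. -/
theorem isConj_iff_kdM {A B : Matrix ι ι K} : IsConj A B ↔ ∀ f, kdM A f = kdM B f :=
  ⟨fun ⟨P, hP⟩ => kdM_eq_of_mul_eq P hP, fun h => exists_gl_of_kdM_eq h⟩

theorem isConj_units_iff {M : Type*} [Monoid M] {a b : Mˣ} :
    IsConj a b ↔ IsConj (a : M) (b : M) := by
  constructor
  · rintro ⟨c, hc⟩
    exact ⟨c, congrArg Units.val hc⟩
  · rintro ⟨c, hc⟩
    exact ⟨toUnits c, Units.ext hc⟩

theorem isConj_gl_iff_kdM {A B : GL ι K} :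
    IsConj A B ↔ ∀ f, kdM (A : Matrix ι ι K) f = kdM (B : Matrix ι ι K) f := by
  rw [isConj_units_iff, isConj_iff_kdM]

theorem aeval_transpose' (A : Matrix ι ι K) (f : K[X]) : aeval Aᵀ f = (aeval A f)ᵀ := by
  induction f using Polynomial.induction_on' with
  | add p q hp hq => simp [hp, hq]
  | monomial n a =>
    simp [aeval_monomial, Algebra.algebraMap_eq_smul_one, transpose_pow]

theorem kdM_transpose (A : Matrix ι ι K) (f : K[X]) : kdM Aᵀ f = kdM A f := by
  have h1 := kdM_add_rank A f
  have h2 := kdM_add_rank Aᵀ f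
  rw [aeval_transpose', rank_transpose] at h2
  omega

theorem isConj_transpose (A : Matrix ι ι K) : IsConj A Aᵀ :=
  isConj_iff_kdM.2 fun f => (kdM_transpose A f).symm

theorem kdM_reindex {κ : Type*} [Fintype κ] [DecidableEq κ] (e : ι ≃ κ) (A : Matrix ι ι K)
    (f : K[X]) : kdM (Matrix.reindex e e A) f = kdM A f := by
  refine (kdE_congr (LinearEquiv.funCongrLeft K K e.symm) (fun v => ?_) f).symm
  ext i
  simp [Matrix.toLin'_apply, mulVec, dotProduct, ← e.symm.sum_comp]

theorem kdM_zero (A : Matrix ι ι K) : kdM A 0 = Fintype.card ι := by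
  rw [kdM, kdE_zero]; simp

theorem aeval_toLin'_eq_zero {A : Matrix ι ι K} {P : K[X]} :
    aeval (Matrix.toLin' A) P = 0 ↔ aeval A P = 0 := by
  rw [aeval_toLin', EmbeddingLike.map_eq_zero_iff]

theorem aeval_eq_zero_iff_kdM {A : Matrix ι ι K} {P : K[X]} :
    aeval A P = 0 ↔ kdM A P = Fintype.card ι := by
  rw [← aeval_toLin'_eq_zero]
  constructor
  · intro h; rw [kdM, kdE_of_aeval_eq_zero h]; simp
  · intro h; exact aeval_eq_zero_of_kdE (by simpa [kdM] using h)

open Classical in
/-- A matrix with prescribed cyclic pieces. -/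
theorem exists_matrix_kdM {κ : Type*} [Fintype κ] (m : κ → K[X]) (hm : ∀ k, m k ≠ 0)
    (hι : Fintype.card ι = ∑ k, (m k).natDegree) :
    ∃ A : Matrix ι ι K, ∀ f, kdM A f = ∑ k, (EuclideanDomain.gcd f (m k)).natDegree := by
  have := fun k => finiteDimensional_quot (hm k)
  let V := ∀ k, K[X] ⧸ Ideal.span {m k}
  have hV : finrank K V = Fintype.card ι := by
    rw [hι, Module.finrank_pi_fintype]
    exact Finset.sum_congr rfl fun k _ => finrank_quotient_span_eq_natDegree
  let b : Basis ι K V := (Module.finBasisOfFinrankEq K V hV).reindex (Fintype.equivFin ι).symm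
  refine ⟨LinearMap.toMatrix b b (mulX K V), fun f => ?_⟩
  rw [kdM_toMatrix, kdE_mulX, kd_pi]
  exact Finset.sum_congr rfl fun k _ => kd_quot (hm k) f

end Mat

end Cfsg.Agent.Lib.GL.Sim
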