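import Mathlib
import Cfsg.Agent.Lib.GL.AltBasis
import Cfsg.Agent.Lib.GL.HermBasis
import Cfsg.Agent.Lib.GL.Similar

/-!
Bridges between isometries of abstract alternating / hermitian spaces and the matrix groups
`Sp` and `GU`.
-/

set_option autoImplicit false

open Module Matrix Polynomial

namespace Cfsg.Agent.Lib.GL.Isom

open Cfsg.Agent.Lib.Forms Cfsg.Agent.Lib.GL.H90 Cfsg.Agent.Lib.GL.Alt Cfsg.Agent.Lib.GL.Herm
  Cfsg.Agent.Lib.GL.Sim

variable {F : Type*} [Field F] {V : Type*} [AddCommGroup V] [Module F V]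
variable {ι : Type*} [Fintype ι] [DecidableEq ι]

/-- The matrix of an endomorphism in the coordinates given by `e`. -/
noncomputable def matOf (e : V ≃ₗ[F] (ι → F)) : Module.End F V ≃ₐ[F] Matrix ι ι F :=
  (e.conjAlgEquiv F).trans (LinearMap.toMatrixAlgEquiv')

theorem matOf_mulVec (e : V ≃ₗ[F] (ι → F)) (T : Module.End F V) (v : V) :
    matOf e T *ᵥ e v = e (T v) := by
  simp [matOf, LinearMap.toMatrixAlgEquiv', LinearEquiv.conjAlgEquiv_apply]

theorem matOf_mulVec' (e : V ≃ₗ[F] (ι → F)) (T : Module.End F V) (v : ι → F) :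
    matOf e T *ᵥ v = e (T (e.symm v)) := by
  rw [← matOf_mulVec, e.apply_symm_apply]

theorem matOf_symm_apply (e : V ≃ₗ[F] (ι → F)) (A : Matrix ι ι F) (v : V) :
    (matOf e).symm A v = e.symm (A *ᵥ e v) := by
  rw [LinearEquiv.eq_symm_apply, ← matOf_mulVec, AlgEquiv.apply_symm_apply]

theorem kdM_matOf (e : V ≃ₗ[F] (ι → F)) (T : Module.End F V) (f : F[X]) :
    kdM (matOf e T) f = kdE T f :=
  (kdE_congr e (fun v => by rw [toLin'_apply, matOf_mulVec]) f).symm

theorem matOf_mem_symplecticGroup_iff {m : ℕ} {B : LinearMap.BilinForm F V}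
    (e : V ≃ₗ[F] (Fin m ⊕ Fin m → F)) (he : ∀ u v, B u v = Cfsg.sympForm m F (e u) (e v))
    (T : Module.End F V) :
    matOf e T ∈ Matrix.symplecticGroup (Fin m) F ↔ ∀ u v, B (T u) (T v) = B u v := by
  rw [mem_symplecticGroup_iff_sympForm]
  constructor
  · intro h u v
    rw [he, he, ← h (e u), matOf_mulVec, matOf_mulVec]
  · intro h u v
    rw [matOf_mulVec', matOf_mulVec', ← he, h, he]; simp

theorem matOf_unitary_iff {σ : F →+* F} {B : V →ₗ[F] V →ₛₗ[σ] F}
    (e : V ≃ₗ[F] (ι → F)) (he : ∀ u v, B u v = stdHerm ι σ (e u) (e v))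
    (T : Module.End F V) :
    (matOf e T)ᵀ * (matOf e T).map σ = 1 ↔ ∀ u v, B (T u) (T v) = B u v := by
  rw [← preserves_stdHerm_iff]
  constructor
  · intro h u v
    rw [he, he, ← h (e u), matOf_mulVec, matOf_mulVec]
  · intro h u v
    rw [matOf_mulVec', matOf_mulVec', ← he, h, he]; simp

/-- A faithful representation preserving a non-degenerate alternating form embeds the group in the
symplectic group. -/
theorem exists_hom_symplecticGroup [FiniteDimensional F V] {G : Type*} [Group G] {m : ℕ}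
    {B : LinearMap.BilinForm F V} (hA : B.IsAlt) (hB : B.Nondegenerate) (hm : finrank F V = 2 * m)
    (ρ : G →* Module.End F V) (hρ : Function.Injective ρ) (h : ∀ g u v, B (ρ g u) (ρ g v) = B u v) :
    ∃ φ : G →* Matrix.symplecticGroup (Fin m) F, Function.Injective φ := by
  obtain ⟨e, he⟩ := exists_equiv_sympForm_of_finrank hA hB hm
  refine ⟨MonoidHom.codRestrict (((matOf e).toRingEquiv.toMonoidHom).comp ρ) _
    (fun g => (matOf_mem_symplecticGroup_iff e he _).2 (h g)), fun a b hab => ?_⟩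
  exact hρ ((matOf e).injective (congrArg Subtype.val hab))

/-- An isometry of an alternating space is represented by an element of the symplectic group. -/
theorem exists_symplectic_kdM [FiniteDimensional F V] {m : ℕ}
    {B : LinearMap.BilinForm F V} (hA : B.IsAlt) (hB : B.Nondegenerate) (hm : finrank F V = 2 * m)
    (T : Module.End F V) (h : ∀ u v, B (T u) (T v) = B u v) :
    ∃ A : Matrix.symplecticGroup (Fin m) F, 
      ∀ f, kdM (A : Matrix (Fin m ⊕ Fin m) (Fin m ⊕ Fin m) F) f = kdE T f := by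
  obtain ⟨e, he⟩ := exists_equiv_sympForm_of_finrank hA hB hm
  exact ⟨⟨_, (matOf_mem_symplecticGroup_iff e he _).2 h⟩, kdM_matOf e T⟩

/-- A matrix `A` with `Aᵀ * A.map σ = 1` as an element of `GU`. -/
noncomputable def guMk {K : Type*} [Field K] [Fintype K] {q n : ℕ} {σ : K →+* K}
    (hσ : ∀ a, σ a = a ^ q) (A : Matrix (Fin n) (Fin n) K) (hA : Aᵀ * A.map σ = 1) :
    Cfsg.GU n K q :=
  ⟨Matrix.GeneralLinearGroup.mkOfDetNeZero A (by
      have := congrArg Matrix.det hA
      rw [det_mul, det_transpose, det_one] at this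
      exact left_ne_zero_of_mul_eq_one this), (mem_GU_iff' hσ _).2 hA⟩

@[simp] theorem coe_guMk {K : Type*} [Field K] [Fintype K] {q n : ℕ} {σ : K →+* K}
    (hσ : ∀ a, σ a = a ^ q) (A : Matrix (Fin n) (Fin n) K) (hA : Aᵀ * A.map σ = 1) :
    ((guMk hσ A hA : GL (Fin n) K) : Matrix (Fin n) (Fin n) K) = A := rfl

/-- An isometry of a hermitian space is represented by an element of the unitary group. -/
theorem exists_GU_kdM {K : Type*} [Field K] [Fintype K] {q n : ℕ} {σ : K →+* K}
    (hσq : ∀ a, σ a = a ^ q) (hσ : IsInvol σ) {W : Type*} [AddCommGroup W] [Module K W]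
    [FiniteDimensional K W] {B : W →ₗ[K] W →ₛₗ[σ] K} (hB : IsHerm B) (hn : finrank K W = n)
    (T : Module.End K W) (h : ∀ u v, B (T u) (T v) = B u v) :
    ∃ A : Cfsg.GU n K q, ∀ f, kdM ((A : GL (Fin n) K) : Matrix (Fin n) (Fin n) K) f = kdE T f := by
  obtain ⟨e, he⟩ := hB.exists_equiv hσ (ι := Fin n) (by simp [hn])
  exact ⟨guMk hσq _ ((matOf_unitary_iff e he _).2 h), kdM_matOf e T⟩

/-- The field with `q` elements embeds as the fixed field of the involution. -/
theorem exists_ringHom_range_eq_fixed {K : Type*} [Field K] [Fintype K] [Fintype F] {q : ℕ}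
    {σ : K →+* K} (hσ : IsInvol σ) (hK : Fintype.card K = q ^ 2) (hF : Fintype.card F = q) :
    ∃ φ : F →+* K, ∀ a, a ∈ φ.range ↔ σ a = a := by
  let F₀ := fixedSub hσ.equiv
  let : Fintype F₀ := Fintype.ofFinite _
  have h : Fintype.card F = Fintype.card F₀ := by
    rw [hF, ← Nat.card_eq_fintype_card]
    exact (card_fixedSub hσ.equiv hσ.orderOf_equiv (by rw [Nat.card_eq_fintype_card, hK])).symm
  let e := FiniteField.ringEquivOfCardEq h
  refine ⟨F₀.subtype.comp e.toRingHom, fun a => ⟨?_, fun ha => ⟨e.symm ⟨a, ha⟩, by simp⟩⟩⟩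
  rintro ⟨x, rfl⟩
  exact (e x).2

theorem finrank_eq_two_of_card {K : Type*} [Field K] [Fintype K] [Fintype F] [Algebra F K] {q : ℕ}
    (hK : Fintype.card K = q ^ 2) (hF : Fintype.card F = q) : finrank F K = 2 := by
  have h := Module.card_eq_pow_finrank (K := F) (V := K)
  rw [hK, hF] at h
  have : 2 ≤ q := by rw [← hF]; exact Fintype.one_lt_card
  exact (Nat.pow_right_injective this h).symm

end Cfsg.Agent.Lib.GL.Isom
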