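import Mathlib

/-!
Hilbert 90 and surjectivity of the norm for a finite commutative ring with involution `s`
containing an element `δ` with `δ - s δ` a unit; and versions inside a commutative subring of a
finite (non-commutative) ring with an anti-automorphism.
-/

set_option autoImplicit false

namespace Cfsg.Agent.Lib.GL.RingNorm

section Comm

variable {R : Type*} [CommRing R] [Finite R] (s : R →+* R)

theorem exists_pow_idem {M : Type*} [Monoid M] [Finite M] (a : M) :
    ∃ n, 0 < n ∧ a ^ n * a ^ n = a ^ n := by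
  obtain ⟨i, j, hij, h⟩ : ∃ i j : ℕ, i < j ∧ a ^ i = a ^ j := by
    obtain ⟨i, j, hij, h⟩ := Finite.exists_ne_map_eq_of_infinite (fun n : ℕ => a ^ n)
    rcases lt_or_gt_of_ne hij with h' | h'
    · exact ⟨i, j, h', h⟩
    · exact ⟨j, i, h', h.symm⟩
  obtain ⟨d, rfl⟩ := Nat.exists_eq_add_of_lt hij
  have h1 : ∀ k m, i ≤ m → a ^ (m + k * (d + 1)) = a ^ m := by
    intro k m hm
    obtain ⟨m, rfl⟩ := Nat.exists_eq_add_of_le hm
    induction k with
    | zero => simp
    | succ k ih =>
      rw [show i + m + (k + 1) * (d + 1) = (i + d + 1) + (m + k * (d + 1)) by ring, pow_add, ← h,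
        ← pow_add, ← add_assoc, ih]
  refine ⟨(i + 1) * (d + 1), by positivity, ?_⟩
  rw [← pow_add, h1 _ _ (by nlinarith)]

/-- Hilbert 90 for a finite commutative ring with involution. -/
theorem exists_isUnit_add (hs : ∀ a, s (s a) = a) {δ : R} (hδ : IsUnit (δ - s δ)) {x : R}
    (hx : x * s x = 1) : ∃ a, IsUnit (a + x * s a) := by
  obtain ⟨n, hn, he⟩ := exists_pow_idem (1 + x)
  set e := (1 + x) ^ n with he_def
  have h1 : s (1 + x) = s x * (1 + x) := by rw [map_add, map_one]; linear_combination -hx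
  have h2 : s e = s x ^ n * e := by rw [he_def, map_pow, h1, mul_pow]
  have h3 : x ^ n * s x ^ n = 1 := by rw [← mul_pow, hx, one_pow]
  have h4 : s e = e := by
    have h5 : s e * s e = s e := by rw [← map_mul, he]
    rw [h2] at h5 ⊢
    linear_combination x ^ n * h5 - (s x ^ n * e * e - e) * h3 - s x ^ n * he
  refine ⟨e + (1 - e) * δ, ?_⟩
  by_contra hu
  obtain ⟨M, hM, hmem⟩ := exists_max_ideal_of_mem_nonunits (mem_nonunits_iff.2 hu)
  have hP := hM.isPrime
  have h6 : e + (1 - e) * δ + x * s (e + (1 - e) * δ) = e * (1 + x) + (1 - e) * (δ + x * s δ) := by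
    rw [map_add, map_mul, map_sub, map_one, h4]; ring
  rw [h6] at hmem
  rcases hP.mem_or_mem (show e * (1 - e) ∈ M by
    rw [mul_sub, he, mul_one, sub_self]; exact M.zero_mem) with h | h
  · have h7 : 1 + x ∈ M := hP.mem_of_pow_mem n h
    refine hM.ne_top (M.eq_top_of_isUnit_mem ?_ hδ)
    have : δ - s δ = (e * (1 + x) + (1 - e) * (δ + x * s δ)) - (1 + x) * (e + s δ) +
      e * (δ + x * s δ) := by ring
    rw [this]
    exact M.add_mem (M.sub_mem hmem (M.mul_mem_right _ h7)) (M.mul_mem_right _ h)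
  · have h7 : 1 + x ∈ M := by
      have : 1 + x = (e * (1 + x) + (1 - e) * (δ + x * s δ)) + (1 - e) * (1 + x - (δ + x * s δ)) := by
        ring
      rw [this]
      exact M.add_mem hmem (M.mul_mem_right _ h)
    have h8 : e ∈ M := M.pow_mem_of_mem h7 n hn
    exact hM.ne_top ((Ideal.eq_top_iff_one _).2 (by simpa using M.add_mem h h8))

/-- Surjectivity of the norm for a finite commutative ring with involution. -/
theorem exists_norm_eq (hs : ∀ a, s (s a) = a) {δ : R} (hδ : IsUnit (δ - s δ)) {h : R}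
    (hh : IsUnit h) (hsh : s h = h) : ∃ y, y * s y = h := by
  let t : Rˣ →* Rˣ := Units.map (s : R →* R)
  have ht : ∀ u, t (t u) = u := fun u => Units.ext (hs u)
  let N : Rˣ →* Rˣ := MonoidHom.id _ * t
  let D : Rˣ →* Rˣ := MonoidHom.id _ / t
  have hN : ∀ u, N u = u * t u := fun _ => rfl
  have hD : ∀ u, D u = u / t u := fun _ => rfl
  have h1 : N.ker = D.range := by
    ext x
    constructor
    · intro hx
      have hx' : (x : R) * s x = 1 := congrArg Units.val (MonoidHom.mem_ker.1 hx)
      obtain ⟨a, y, hy⟩ := exists_isUnit_add s hs hδ hx'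
      refine ⟨y, ?_⟩
      rw [hD, div_eq_iff_eq_mul]
      apply Units.ext
      change (y : R) = x * s y
      rw [hy, map_add, map_mul, hs]
      linear_combination -a * hx'
    · rintro ⟨y, rfl⟩
      rw [MonoidHom.mem_ker, hN, hD, map_div, ht]
      simp
  have h2 : N.range ≤ D.ker := by
    rintro _ ⟨y, rfl⟩
    rw [MonoidHom.mem_ker, hD, hN, map_mul, ht, mul_comm, div_self']
  have h3 : Nat.card N.range = Nat.card D.ker := by
    have a1 := Subgroup.card_eq_card_quotient_mul_card_subgroup N.ker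
    have a2 := Subgroup.card_eq_card_quotient_mul_card_subgroup D.ker
    rw [Nat.card_congr (QuotientGroup.quotientKerEquivRange N).toEquiv, h1] at a1
    rw [Nat.card_congr (QuotientGroup.quotientKerEquivRange D).toEquiv, a1, mul_comm] at a2
    exact Nat.eq_of_mul_eq_mul_left Nat.card_pos a2
  obtain ⟨u, rfl⟩ := hh
  have h4 : u ∈ D.ker := by
    rw [MonoidHom.mem_ker, hD, div_eq_one]
    exact Units.ext hsh.symm
  rw [← Subgroup.eq_of_le_of_card_ge h2 h3.ge] at h4
  obtain ⟨y, hy⟩ := h4
  exact ⟨y, congrArg Units.val hy⟩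

end Comm

section Noncomm

variable {E : Type*} [Ring E] [Finite E]

theorem isUnit_subring_of_isUnit (R : Subring E) (x : R) (hx : IsUnit (x : E)) : IsUnit x := by
  obtain ⟨u, hu⟩ := hx
  have h := pow_orderOf_eq_one u
  have hpos := orderOf_pos u
  refine IsUnit.of_pow_eq_one (n := orderOf u) (Subtype.ext ?_) hpos.ne'
  rw [SubmonoidClass.coe_pow, ← hu, ← Units.val_pow_eq_pow_val, h]; rfl

/-- Data: an additive anti-multiplicative map `d`, and a commuting set `S` on which `d` is an
involution. -/
structure AntiData (d : E →+ E) (S : Set E) : Prop where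
  map_one : d 1 = 1
  map_mul : ∀ a b, d (a * b) = d b * d a
  comm : ∀ a ∈ S, ∀ b ∈ S, a * b = b * a
  mem : ∀ a ∈ S, d a ∈ Subring.closure S
  invol : ∀ a ∈ S, d (d a) = a

omit [Finite E] in
theorem AntiData.closure {d : E →+ E} {S : Set E} (h : AntiData d S) {a : E}
    (ha : a ∈ Subring.closure S) : d a ∈ Subring.closure S ∧ d (d a) = a := by
  induction ha using Subring.closure_induction with
  | mem x hx => exact ⟨h.mem x hx, h.invol x hx⟩
  | zero => simp
  | one => simp [h.map_one]
  | add x y _ _ hx hy => exact ⟨by rw [map_add]; exact add_mem hx.1 hy.1, by simp [hx.2, hy.2]⟩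
  | neg x _ hx => exact ⟨by rw [map_neg]; exact neg_mem hx.1, by simp [hx.2]⟩
  | mul x y _ _ hx hy =>
    exact ⟨by rw [h.map_mul]; exact mul_mem hy.1 hx.1, by rw [h.map_mul, h.map_mul, hx.2, hy.2]⟩

omit [Finite E] in
theorem AntiData.comm' {d : E →+ E} {S : Set E} (h : AntiData d S) {a b : E}
    (ha : a ∈ Subring.closure S) (hb : b ∈ Subring.closure S) : a * b = b * a := by
  let : CommRing (Subring.closure S) := Subring.closureCommRingOfComm h.comm
  exact congrArg Subtype.val (mul_comm (⟨a, ha⟩ : Subring.closure S) ⟨b, hb⟩)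

/-- The involution on the subring generated by `S`. -/
def AntiData.hom {d : E →+ E} {S : Set E} (h : AntiData d S) :
    Subring.closure S →+* Subring.closure S where
  toFun a := ⟨d a, (h.closure a.2).1⟩
  map_one' := Subtype.ext h.map_one
  map_mul' a b := Subtype.ext (by
    change d (a * b) = d a * d b
    rw [h.map_mul, h.comm' (h.closure a.2).1 (h.closure b.2).1])
  map_zero' := Subtype.ext (map_zero d)
  map_add' a b := Subtype.ext (map_add d _ _)

theorem AntiData.exists_isUnit_add {d : E →+ E} {S : Set E} (h : AntiData d S) {δ : E}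
    (hδS : δ ∈ Subring.closure S) (hδ : IsUnit (δ - d δ)) {x : E} (hxS : x ∈ Subring.closure S)
    (hx : x * d x = 1) : ∃ a ∈ Subring.closure S, IsUnit (a + x * d a) := by
  let : CommRing (Subring.closure S) := Subring.closureCommRingOfComm h.comm
  obtain ⟨a, ha⟩ := RingNorm.exists_isUnit_add (R := Subring.closure S) h.hom
    (fun a => Subtype.ext (h.closure a.2).2) (δ := ⟨δ, hδS⟩) (isUnit_subring_of_isUnit _ _ hδ)
    (x := ⟨x, hxS⟩) (Subtype.ext hx)
  exact ⟨a, a.2, ha.map (Subring.closure S).subtype⟩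

theorem AntiData.exists_norm_eq {d : E →+ E} {S : Set E} (h : AntiData d S) {δ : E}
    (hδS : δ ∈ Subring.closure S) (hδ : IsUnit (δ - d δ)) {x : E} (hxS : x ∈ Subring.closure S)
    (hx : IsUnit x) (hdx : d x = x) : ∃ y ∈ Subring.closure S, y * d y = x := by
  let : CommRing (Subring.closure S) := Subring.closureCommRingOfComm h.comm
  obtain ⟨a, ha⟩ := RingNorm.exists_norm_eq (R := Subring.closure S) h.hom
    (fun a => Subtype.ext (h.closure a.2).2) (δ := ⟨δ, hδS⟩) (isUnit_subring_of_isUnit _ _ hδ)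
    (h := ⟨x, hxS⟩) (isUnit_subring_of_isUnit _ _ hx) (Subtype.ext hdx)
  exact ⟨a, a.2, congrArg Subtype.val ha⟩

omit [Finite E] in
theorem commute_of_mem_closure {S : Set E} {a b : E} (h : ∀ s ∈ S, s * a = a * s)
    (hb : b ∈ Subring.closure S) : b * a = a * b := by
  have : Subring.closure S ≤ Subring.centralizer {a} := Subring.closure_le.2 fun s hs => by
    simp [Set.mem_centralizer_iff, h s hs]
  exact (Subring.mem_centralizer_iff.1 (this hb) a rfl).symm

end Noncomm

end Cfsg.Agent.Lib.GL.RingNorm
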