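import Mathlib
import Cfsg.Agent.Lib.GL.RingNorm

/-!
Consequences of the norm lemma in a finite ring with an anti-involution.
-/

set_option autoImplicit false

namespace Cfsg.Agent.Lib.GL.RingNorm

variable {E : Type*} [Ring E]

/-- An additive, anti-multiplicative involution. -/
structure AntiInv (d : E →+ E) : Prop where
  map_one : d 1 = 1
  map_mul : ∀ a b, d (a * b) = d b * d a
  invol : ∀ a, d (d a) = a

variable {d : E →+ E}

theorem AntiInv.isUnit (h : AntiInv d) {a : E} (ha : IsUnit a) : IsUnit (d a) := by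
  obtain ⟨u, rfl⟩ := ha
  exact ⟨⟨d u, d (u⁻¹ : Eˣ), by rw [← h.map_mul, u.inv_mul, h.map_one],
    by rw [← h.map_mul, u.mul_inv, h.map_one]⟩, rfl⟩

variable [Finite E]

/-- A self-adjoint unit is a norm `d y * y` with `y` in the commutative subring generated by
`H`, `δ`, `d δ`. -/
theorem AntiInv.exists_norm (h : AntiInv d) {H δ : E} (hH : IsUnit H) (hdH : d H = H)
    (h1 : Commute δ H) (h3 : Commute δ (d δ)) (hδ : IsUnit (δ - d δ)) :
    ∃ y, IsUnit y ∧ (∀ A, Commute H A → Commute δ A → Commute (d δ) A → Commute y A) ∧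
      d y * y = H := by
  have h2 : Commute (d δ) H := by
    have := congrArg d h1.eq
    rw [h.map_mul, h.map_mul, hdH] at this
    exact this.symm
  have hS : AntiData d {H, δ, d δ} :=
    { map_one := h.map_one
      map_mul := h.map_mul
      comm := by
        simp only [Set.mem_insert_iff, Set.mem_singleton_iff, forall_eq_or_imp, forall_eq]
        exact ⟨⟨trivial, h1.symm, h2.symm⟩, ⟨h1, trivial, h3⟩, h2, h3.symm, trivial⟩
      mem := by
        simp only [Set.mem_insert_iff, Set.mem_singleton_iff, forall_eq_or_imp, forall_eq, hdH,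
          h.invol]
        exact ⟨Subring.subset_closure (by simp), Subring.subset_closure (by simp),
          Subring.subset_closure (by simp)⟩
      invol := fun a _ => h.invol a }
  obtain ⟨y, hy, hy'⟩ := hS.exists_norm_eq (Subring.subset_closure (by simp)) hδ
    (Subring.subset_closure (by simp)) hH hdH
  have hc : y * d y = d y * y := hS.comm' hy (hS.closure hy).1
  refine ⟨y, ?_, fun A a1 a2 a3 => commute_of_mem_closure ?_ hy, hc ▸ hy'⟩
  · exact ((Commute.isUnit_mul_iff hc).1 (hy' ▸ hH)).1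
  · simp only [Set.mem_insert_iff, Set.mem_singleton_iff, forall_eq_or_imp, forall_eq]
    exact ⟨a1, a2, a3⟩

/-- From an invariant non-degenerate form to an invariant non-degenerate `ε`-hermitian form. -/
theorem AntiInv.exists_herm (h : AntiInv d) (P : Eˣ) {δ : E} (ε : ℤ) (hε : ε * ε = 1)
    (h1 : Commute δ (P⁻¹ * d P)) (h2 : Commute δ (P⁻¹ * d δ * P))
    (hδ : IsUnit (δ - P⁻¹ * d δ * P)) :
    ∃ a, (∀ A, Commute (P⁻¹ * d P : E) A → Commute δ A → Commute (P⁻¹ * d δ * P : E) A →
      Commute a A) ∧ IsUnit (P * a + ε • d (P * a)) := by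
  let e : E →+ E :=
    { toFun := fun a => P⁻¹ * d a * P
      map_zero' := by simp
      map_add' := fun a b => by simp [mul_add, add_mul] }
  have he : ∀ a, e a = P⁻¹ * d a * P := fun _ => rfl
  have p1 : d P * d (P⁻¹ : Eˣ) = 1 := by rw [← h.map_mul, P.inv_mul, h.map_one]
  have p2 : d (P⁻¹ : Eˣ) * d P = 1 := by rw [← h.map_mul, P.mul_inv, h.map_one]
  let γ : Eˣ := P⁻¹ * ⟨d P, d (P⁻¹ : Eˣ), p1, p2⟩
  have hγ : (γ : E) = P⁻¹ * d P := rfl
  have hγ' : ((γ⁻¹ : Eˣ) : E) = d (P⁻¹ : Eˣ) * P := by
    rw [mul_inv_rev, inv_inv]; rfl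
  have eγ : e γ = (γ⁻¹ : Eˣ) := by
    rw [he, hγ, hγ', h.map_mul, h.invol, ← mul_assoc, P.inv_mul, one_mul]
  have eγ' : e (γ⁻¹ : Eˣ) = γ := by
    rw [he, hγ, hγ', h.map_mul, h.invol, mul_assoc, mul_assoc, P.inv_mul, mul_one]
  have emul : ∀ a b, e (a * b) = e b * e a := fun a b => by
    simp [he, h.map_mul, mul_assoc]
  have ee : ∀ a : E, Commute a γ → e (e a) = a := fun a ha => by
    have : e (e a) = γ * a * (γ⁻¹ : Eˣ) := by
      simp [he, h.map_mul, h.invol, hγ, hγ', mul_assoc]
    rw [this, ← ha.eq, mul_assoc, γ.mul_inv, mul_one]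
  have h1' : Commute δ γ := h1
  have h3 : Commute (e δ) γ := by
    have := congrArg e (h1'.units_inv_right).eq
    rw [emul, emul, eγ'] at this
    exact this.symm
  have hS : AntiData e {(γ : E), ((γ⁻¹ : Eˣ) : E), δ, e δ} :=
    { map_one := by simp [he, h.map_one]
      map_mul := emul
      comm := by
        simp only [Set.mem_insert_iff, Set.mem_singleton_iff, forall_eq_or_imp, forall_eq]
        exact ⟨⟨trivial, by simp, h1'.symm, h3.symm⟩,
          ⟨by simp, trivial, h1'.units_inv_right.symm, h3.units_inv_right.symm⟩,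
          ⟨h1', h1'.units_inv_right, trivial, h2⟩, h3, h3.units_inv_right, h2.symm, trivial⟩
      mem := by
        simp only [Set.mem_insert_iff, Set.mem_singleton_iff, forall_eq_or_imp, forall_eq, eγ, eγ',
          ee δ h1']
        exact ⟨Subring.subset_closure (by simp), Subring.subset_closure (by simp),
          Subring.subset_closure (by simp), Subring.subset_closure (by simp)⟩
      invol := by
        simp only [Set.mem_insert_iff, Set.mem_singleton_iff, forall_eq_or_imp, forall_eq, eγ, eγ',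
          ee δ h1', and_self] }
  have hγS : (γ : E) ∈ Subring.closure {(γ : E), ((γ⁻¹ : Eˣ) : E), δ, e δ} :=
    Subring.subset_closure (by simp)
  obtain ⟨a, ha, hu⟩ := hS.exists_isUnit_add (Subring.subset_closure (by simp)) hδ
    (x := ε • (γ : E)) (zsmul_mem hγS ε) (by
      rw [map_zsmul, eγ, smul_mul_smul_comm, hε, one_smul, γ.mul_inv])
  refine ⟨a, fun A a1 a2 a3 => commute_of_mem_closure ?_ ha, ?_⟩
  · simp only [Set.mem_insert_iff, Set.mem_singleton_iff, forall_eq_or_imp, forall_eq]
    exact ⟨a1, (Commute.units_inv_left (u := γ) a1), a2, a3⟩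
  · have : P * a + ε • d (P * a) = P * (a + ε • (γ : E) * e a) := by
      rw [smul_mul_assoc, hS.comm' hγS (hS.closure ha).1, he, hγ, h.map_mul, mul_add, mul_smul_comm]
      simp [mul_assoc]
    rw [this]
    exact P.isUnit.mul hu

end Cfsg.Agent.Lib.GL.RingNorm
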