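import Mathlib
import Cfsg.Agent.Lib.GL.RingNorm2
import Cfsg.Agent.Lib.GL.Isom

/-!
Conjugacy of semisimple elements in the finite symplectic group, and existence of invariant
alternating forms.
-/

set_option autoImplicit false

open Module Matrix Polynomial

namespace Cfsg.Agent.Lib.GL.AltConj

open Cfsg.Agent.Lib.GL.Alt Cfsg.Agent.Lib.GL.RingNorm Cfsg.Agent.Lib.GL.Isom
  Cfsg.Agent.Lib.GL.Sim Cfsg.Agent.Lib.Forms

universe u

variable {F : Type*} [Field F] {V : Type u} [AddCommGroup V] [Module F V]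

theorem nondegenerate_of_isAlt {B : LinearMap.BilinForm F V} (hA : B.IsAlt)
    (h : ∀ v, (∀ u, B u v = 0) → v = 0) : B.Nondegenerate :=
  ⟨fun v hv => h v fun u => by rw [← LinearMap.IsAlt.neg hA, hv, neg_zero], h⟩

theorem injective_of_isometry {W : Type*} [AddCommGroup W] [Module F W]
    {B : LinearMap.BilinForm F V} {B' : LinearMap.BilinForm F W} (hB : B.Nondegenerate)
    {T : V →ₗ[F] W} (h : ∀ u v, B' (T u) (T v) = B u v) : Function.Injective T := by
  rw [injective_iff_map_eq_zero]
  intro v hv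
  exact hB.2 v fun u => by rw [← h, hv, map_zero]

/-- The adjoint with respect to a non-degenerate form. -/
noncomputable def adjB [FiniteDimensional F V] (B : LinearMap.BilinForm F V) (hB : B.Nondegenerate) :
    Module.End F V →+ Module.End F V where
  toFun := B.leftAdjointOfNondegenerate hB
  map_zero' := LinearMap.ext fun v => by
    refine hB.1 _ fun u => ?_
    rw [B.isAdjointPairLeftAdjointOfNondegenerate hB 0 v u]; simp
  map_add' a b := LinearMap.ext fun v => by
    refine sub_eq_zero.1 (hB.1 _ fun u => ?_)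
    simp [B.isAdjointPairLeftAdjointOfNondegenerate hB _ v u]

theorem adjB_apply [FiniteDimensional F V] (B : LinearMap.BilinForm F V) (hB : B.Nondegenerate)
    (T : Module.End F V) (u v : V) : B (adjB B hB T u) v = B u (T v) :=
  B.isAdjointPairLeftAdjointOfNondegenerate hB T u v

theorem eq_of_forall_apply {B : LinearMap.BilinForm F V} (hB : B.Nondegenerate)
    {S T : Module.End F V} (h : ∀ u v, B (S u) v = B (T u) v) : S = T :=
  LinearMap.ext fun u => sub_eq_zero.1 (hB.1 _ fun v => by simp [h])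

theorem antiInv_adjB [FiniteDimensional F V] {B : LinearMap.BilinForm F V} (hA : B.IsAlt)
    (hB : B.Nondegenerate) : AntiInv (adjB B hB) where
  map_one := eq_of_forall_apply hB fun u v => by simp [adjB_apply]
  map_mul a b := eq_of_forall_apply hB fun u v => by simp [adjB_apply]
  invol a := eq_of_forall_apply hB fun u v => by
    rw [adjB_apply, ← LinearMap.IsAlt.neg hA, adjB_apply, LinearMap.IsAlt.neg hA]

/-- Any two `A`-invariant non-degenerate alternating forms are related by a map commuting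
with `A`. -/
def Good (A : Module.End F V) : Prop :=
  ∀ B B' : LinearMap.BilinForm F V, B.IsAlt → B.Nondegenerate → B'.IsAlt → B'.Nondegenerate →
    (∀ u v, B (A u) (A v) = B u v) → (∀ u v, B' (A u) (A v) = B' u v) →
    ∃ X : Module.End F V, (∀ v, X (A v) = A (X v)) ∧ ∀ u v, B (X u) (X v) = B' u v

theorem good_of_injective [Finite F] [FiniteDimensional F V] {A : Module.End F V}
    (h1 : ∀ v, A v = v → v = 0) (h2 : ∀ v, A v = -v → v = 0) : Good A := by
  intro B B' hA hB hA' hB' hi hi'
  have : Finite V := Module.finite_of_finite F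
  have : Finite (Module.End F V) := Finite.of_injective _ DFunLike.coe_injective
  let H := B'.symmCompOfNondegenerate B hB
  have hH : ∀ u v, B (H u) v = B' u v := fun u v => B'.symmCompOfNondegenerate_left_apply hB v u
  have hd := antiInv_adjB hA hB
  have hAu : IsUnit A := (LinearMap.isUnit_iff_ker_eq_bot _).2
    (LinearMap.ker_eq_bot.2 (injective_of_isometry hB hi))
  have e1 : adjB B hB A * A = 1 := eq_of_forall_apply hB fun u v => by simp [adjB_apply, hi]
  have e2 : A * adjB B hB A = 1 := mul_eq_one_comm.1 e1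
  have hHA : Commute A H := by
    refine (hd.isUnit hAu).mul_left_cancel (eq_of_forall_apply hB fun u v => ?_)
    rw [← mul_assoc, e1, one_mul]
    simp [adjB_apply, hH, hi']
  have a1 : IsUnit H := by
    refine (LinearMap.isUnit_iff_ker_eq_bot _).2 (LinearMap.ker_eq_bot'.2 fun v hv => ?_)
    exact hB'.1 v fun u => by rw [← hH, hv]; simp
  have a2 : adjB B hB H = H := by
    refine eq_of_forall_apply hB fun u v => ?_
    rw [adjB_apply, hH, ← LinearMap.IsAlt.neg hA, hH, LinearMap.IsAlt.neg hA']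
  have a3 : IsUnit (A - adjB B hB A) := by
    refine (LinearMap.isUnit_iff_ker_eq_bot _).2 (LinearMap.ker_eq_bot'.2 fun v hv => ?_)
    have h5 : A (A v) = v := by
      have := congrArg A hv
      rwa [LinearMap.sub_apply, map_sub, map_zero, ← Module.End.mul_apply A (adjB B hB A), e2,
        sub_eq_zero] at this
    have h6 := h1 (A v + v) (by rw [map_add, h5, add_comm])
    exact h2 v (eq_neg_of_add_eq_zero_left h6)
  obtain ⟨y, -, h3, h4⟩ := hd.exists_norm a1 a2 hHA (e2.trans e1.symm) a3
  refine ⟨y, fun v => LinearMap.congr_fun (h3 A hHA.symm (Commute.refl _) (e1.trans e2.symm)).eq v,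
    fun u v => ?_⟩
  rw [← hH, ← h4, Module.End.mul_apply, adjB_apply]

theorem range_sub_mapsTo (A : Module.End F V) (ε : F) :
    ∀ v ∈ LinearMap.range (A - ε • 1), A v ∈ LinearMap.range (A - ε • 1) := by
  rintro _ ⟨w, rfl⟩
  exact ⟨A w, by simp⟩

theorem isCompl_ker_range [FiniteDimensional F V] {T : Module.End F V}
    (h : ∀ v, T (T v) = 0 → T v = 0) : IsCompl (LinearMap.ker T) (LinearMap.range T) := by
  have hd : Disjoint (LinearMap.ker T) (LinearMap.range T) := by
    rw [Submodule.disjoint_def]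
    rintro _ hx ⟨w, rfl⟩
    exact h w hx
  refine (Submodule.isCompl_iff_disjoint _ _ ?_).2 hd
  have := T.finrank_range_add_finrank_ker
  omega

theorem nondegenerate_restrict {B : LinearMap.BilinForm F V} (hA : B.IsAlt) (hB : B.Nondegenerate)
    {U W : Submodule F V} (h : IsCompl U W) (ho : ∀ u ∈ U, ∀ w ∈ W, B u w = 0) :
    (B.restrict U).Nondegenerate ∧ (B.restrict W).Nondegenerate := by
  constructor
  · refine nondegenerate_of_isAlt (fun v => hA v) fun v hv => Subtype.ext (hB.2 _ fun x => ?_)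
    obtain ⟨a, b, rfl, -⟩ := Submodule.existsUnique_add_of_isCompl h x
    have h1 : B a v = 0 := hv a
    rw [map_add, LinearMap.add_apply, h1, ← LinearMap.IsAlt.neg hA, ho _ v.2 _ b.2]; simp
  · refine nondegenerate_of_isAlt (fun v => hA v) fun v hv => Subtype.ext (hB.2 _ fun x => ?_)
    obtain ⟨a, b, rfl, -⟩ := Submodule.existsUnique_add_of_isCompl h x
    have h1 : B b v = 0 := hv b
    rw [map_add, LinearMap.add_apply, h1, ho _ a.2 _ v.2]; simp

theorem ker_orth_range {B : LinearMap.BilinForm F V} {A : Module.End F V}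
    (hi : ∀ u v, B (A u) (A v) = B u v) {ε : F} (hε : ε * ε = 1) :
    ∀ u ∈ LinearMap.ker (A - ε • 1), ∀ w ∈ LinearMap.range (A - ε • 1), B u w = 0 := by
  rintro u hu _ ⟨w, rfl⟩
  have h1 : A u = ε • u := by simpa [sub_eq_zero] using hu
  have h2 := hi u w
  rw [h1] at h2
  simp only [map_smul, LinearMap.smul_apply, smul_eq_mul, LinearMap.sub_apply, map_sub,
    Module.End.one_apply] at h2 ⊢
  linear_combination ε * h2 - B u (A w) * hε

theorem good_of_restrict [FiniteDimensional F V] {A : Module.End F V} {ε : F} (hε : ε * ε = 1)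
    (h : ∀ v, (A - ε • 1) ((A - ε • 1) v) = 0 → (A - ε • 1) v = 0)
    (hW : Good (A.restrict (range_sub_mapsTo A ε))) : Good A := by
  intro B B' hA hB hA' hB' hi hi'
  have hc := isCompl_ker_range h
  have ho := ker_orth_range hi hε
  have ho' := ker_orth_range hi' hε
  obtain ⟨n1, n2⟩ := nondegenerate_restrict hA hB hc ho
  obtain ⟨n1', n2'⟩ := nondegenerate_restrict hA' hB' hc ho'
  obtain ⟨e, he⟩ := exists_isometry (B := B'.restrict _) (fun v => hA' v) n1' (B' := B.restrict _)
    (fun v => hA v) n1 rfl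
  obtain ⟨X, hX, hX'⟩ := hW _ _ (fun v => hA v) n2 (fun v => hA' v) n2'
    (fun u v => hi u v) (fun u v => hi' u v)
  refine ⟨LinearMap.ofIsCompl hc (Submodule.subtype _ ∘ₗ e.toLinearMap) (Submodule.subtype _ ∘ₗ X),
    fun v => ?_, fun u v => ?_⟩
  · obtain ⟨a, b, rfl, -⟩ := Submodule.existsUnique_add_of_isCompl hc v
    have h1 : ∀ a : LinearMap.ker (A - ε • 1), A a = (ε • a : LinearMap.ker (A - ε • 1)) := fun a => by
      have := LinearMap.mem_ker.1 a.2
      rwa [LinearMap.sub_apply, sub_eq_zero] at this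
    have h2 : ∀ b : LinearMap.range (A - ε • 1), A b = (A.restrict (range_sub_mapsTo A ε) b) :=
      fun b => rfl
    simp only [map_add, LinearMap.ofIsCompl_apply_left, LinearMap.ofIsCompl_apply_right, h1, h2,
      LinearMap.comp_apply, Submodule.subtype_apply, hX, LinearEquiv.coe_coe, map_smul]
    rfl
  · obtain ⟨a, b, rfl, -⟩ := Submodule.existsUnique_add_of_isCompl hc u
    obtain ⟨a', b', rfl, -⟩ := Submodule.existsUnique_add_of_isCompl hc v
    have h1 : B (e a) (e a') = B' a a' := he a a'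
    have h2 : B (X b) (X b') = B' b b' := hX' b b'
    simp only [map_add, LinearMap.ofIsCompl_apply_left, LinearMap.ofIsCompl_apply_right,
      LinearMap.comp_apply, Submodule.subtype_apply, LinearEquiv.coe_coe, LinearMap.add_apply, h1, h2]
    rw [ho _ (e a).2 _ (X b').2, ho' _ a.2 _ b'.2, ← LinearMap.IsAlt.neg hA, ho _ (e a').2 _ (X b).2,
      ← LinearMap.IsAlt.neg hA' a' b, ho' _ a'.2 _ b.2]

theorem good_of_semisimple [Finite F] [FiniteDimensional F V] {A : Module.End F V}
    (h : ∀ (ε : F) v, (A - ε • 1) ((A - ε • 1) v) = 0 → (A - ε • 1) v = 0) : Good A := by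
  refine good_of_restrict (ε := 1) (by simp) (h 1) (good_of_restrict (ε := -1) (by simp) ?_
    (good_of_injective ?_ ?_))
  · intro v hv
    exact Subtype.ext (h (-1) v (congrArg Subtype.val hv))
  · rintro ⟨⟨_, w, rfl⟩, hv⟩ h1
    have h2 : A ((A - (1 : F) • 1) w) = (A - (1 : F) • 1) w :=
      congrArg (fun x => x.1.1) h1
    exact Subtype.ext (Subtype.ext (h 1 w (by simpa [sub_eq_zero] using h2)))
  · rintro ⟨_, w, rfl⟩ h1
    have h2 : A ((A - (-1 : F) • 1) w) = -(A - (-1 : F) • 1) w :=
      congrArg (fun x => x.1.1) h1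
    refine Subtype.ext (Subtype.ext (h (-1) w ?_))
    rw [LinearMap.sub_apply, h2]; simp

theorem semisimple_of_squarefree {A : Module.End F V} {P : F[X]} (hP : Squarefree P)
    (hA : aeval A P = 0) (ε : F) (v : V) (h : (A - ε • 1) ((A - ε • 1) v) = 0) :
    (A - ε • 1) v = 0 := by
  classical
  have e1 : aeval A (X - C ε) = A - ε • 1 := by simp [Algebra.algebraMap_eq_smul_one]
  have h1 : v ∈ LinearMap.ker (aeval A ((X - C ε) ^ 2)) := by
    rw [LinearMap.mem_ker, pow_two, map_mul, e1]; exact h
  rw [ker_aeval_gcd hA] at h1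
  have h2 : EuclideanDomain.gcd ((X - C ε) ^ 2) P ∣ X - C ε :=
    ((hP.squarefree_of_dvd (EuclideanDomain.gcd_dvd_right _ _)).dvd_pow_iff_dvd two_ne_zero).1
      (EuclideanDomain.gcd_dvd_left _ _)
  have := ker_aeval_mono A h2 h1
  rwa [LinearMap.mem_ker, e1] at this

/-- Semisimple elements of the symplectic group that are conjugate in `GL` are conjugate. -/
theorem isConj_symplectic_iff [Finite F] {m : ℕ} (A B : Matrix.symplecticGroup (Fin m) F)
    {P : F[X]} (hP : Squarefree P)
    (hA : aeval (A : Matrix (Fin m ⊕ Fin m) (Fin m ⊕ Fin m) F) P = 0) :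
    IsConj A B ↔ IsConj (A : Matrix (Fin m ⊕ Fin m) (Fin m ⊕ Fin m) F) B := by
  refine ⟨fun h => (Matrix.symplecticGroup (Fin m) F).subtype.map_isConj h, ?_⟩
  rintro ⟨Q, hQ⟩
  have hg : Good (toLin' (A : Matrix (Fin m ⊕ Fin m) (Fin m ⊕ Fin m) F)) :=
    good_of_semisimple (semisimple_of_squarefree hP (aeval_toLin'_eq_zero.2 hA))
  let T := toLin' (Q : Matrix (Fin m ⊕ Fin m) (Fin m ⊕ Fin m) F)
  have hA1 := (mem_symplecticGroup_iff_sympForm _).1 A.2
  have hB1 := (mem_symplecticGroup_iff_sympForm _).1 B.2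
  obtain ⟨X, h1, h2⟩ := hg ((sympBilin m F).compl₁₂ T T) (sympBilin m F)
    (fun v => sympBilin_isAlt m _) (nondegenerate_of_isAlt (fun v => sympBilin_isAlt m _) (by
      intro v hv
      have h3 : T v = 0 := (sympBilin_nondegenerate m).2 _ fun u => by
        have := hv ((Q⁻¹ : GL _ F) *ᵥ u)
        simpa [T] using this
      have := congrArg ((Q⁻¹ : GL _ F).1 *ᵥ ·) h3
      simpa [T] using this))
    (sympBilin_isAlt m) (sympBilin_nondegenerate m)
    (fun u v => by
      simp only [LinearMap.compl₁₂_apply, T, toLin'_apply, mulVec_mulVec, hQ.eq, sympBilin_apply]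
      rw [← mulVec_mulVec, ← mulVec_mulVec, hB1])
    (fun u v => by simp only [toLin'_apply, sympBilin_apply, hA1])
  let Y : Matrix.symplecticGroup (Fin m) F := ⟨Q * LinearMap.toMatrix' X,
    (mem_symplecticGroup_iff_sympForm _).2 fun u v => by
      have := h2 u v
      simpa [T, sympBilin_apply, ← mulVec_mulVec] using this⟩
  refine isConj_iff.2 ⟨Y, ?_⟩
  rw [mul_inv_eq_iff_eq_mul]
  apply Subtype.ext
  have h3 : LinearMap.toMatrix' X * A = A * LinearMap.toMatrix' X := by
    apply toLin'.injective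
    refine LinearMap.ext fun v => ?_
    simpa [← mulVec_mulVec] using h1 v
  change Q * LinearMap.toMatrix' X * A = B * (Q * LinearMap.toMatrix' X)
  rw [mul_assoc, h3, ← mul_assoc, hQ.eq, mul_assoc]

end Cfsg.Agent.Lib.GL.AltConj
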