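import Mathlib

/-!
Counting conjugacy classes through a complete invariant, and counting invariant multiplicity
functions on `ZMod r`.
-/

set_option autoImplicit false

namespace Cfsg.Agent.Lib.GL.ClassCount

section Classes

variable {G : Type*} [Group G] {X : Type*}

theorem card_classes (p : G → Prop) (Φ : G → X)
    (h : ∀ g g', p g → p g' → (IsConj g g' ↔ Φ g = Φ g')) :
    Nat.card {C : ConjClasses G // ∃ g, ConjClasses.mk g = C ∧ p g} =
      Nat.card {x : X // ∃ g, p g ∧ Φ g = x} := by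
  refine Nat.card_congr (Equiv.ofBijective
    (fun C => ⟨Φ C.2.choose, C.2.choose, C.2.choose_spec.2, rfl⟩) ⟨fun C C' hC => ?_, ?_⟩)
  · have h1 := (h _ _ C.2.choose_spec.2 C'.2.choose_spec.2).2 (congrArg Subtype.val hC)
    apply Subtype.ext
    rw [← C.2.choose_spec.1, ← C'.2.choose_spec.1]
    exact ConjClasses.mk_eq_mk_iff_isConj.2 h1
  · rintro ⟨x, g, hg, rfl⟩
    let C : {C : ConjClasses G // ∃ g, ConjClasses.mk g = C ∧ p g} := ⟨ConjClasses.mk g, g, rfl, hg⟩
    exact ⟨C, Subtype.ext ((h _ _ C.2.choose_spec.2 hg).1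
      (ConjClasses.mk_eq_mk_iff_isConj.1 C.2.choose_spec.1))⟩

theorem card_classes_of_iff (p : G → Prop) (Φ : G → X) (P : X → Prop)
    (h : ∀ g g', p g → p g' → (IsConj g g' ↔ Φ g = Φ g')) (hP : ∀ x, P x ↔ ∃ g, p g ∧ Φ g = x) :
    Nat.card {C : ConjClasses G // ∃ g, ConjClasses.mk g = C ∧ p g} = Nat.card {x : X // P x} := by
  rw [card_classes p Φ h]
  exact Nat.card_congr (Equiv.subtypeEquivRight fun x => (hP x).symm)

theorem card_subtype_ne {P : X → Prop} [Finite {x // P x}] {a : X} (ha : P a) :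
    Nat.card {x // P x ∧ x ≠ a} = Nat.card {x // P x} - 1 := by
  have := Set.ncard_sdiff_singleton_of_mem (s := {x | P x}) ha
  exact this

/-- Classes of elements of prime order `r`. -/
theorem card_classes_orderOf {r : ℕ} (hr : r.Prime) (Φ : G → X) (P : X → Prop) [Finite {x // P x}]
    (h : ∀ g g', g ^ r = 1 → g' ^ r = 1 → (IsConj g g' ↔ Φ g = Φ g'))
    (hP : ∀ x, P x ↔ ∃ g, g ^ r = 1 ∧ Φ g = x) :
    Nat.card {C : ConjClasses G // ∃ g, ConjClasses.mk g = C ∧ orderOf g = r} =
      Nat.card {x : X // P x} - 1 := by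
  have := Fact.mk hr
  rw [← card_subtype_ne ((hP (Φ 1)).2 ⟨1, one_pow r, rfl⟩)]
  refine card_classes_of_iff _ Φ _ (fun g g' hg hg' =>
    h g g' (hg ▸ pow_orderOf_eq_one g) (hg' ▸ pow_orderOf_eq_one g')) fun x => ⟨?_, ?_⟩
  · rintro ⟨hx, hx1⟩
    obtain ⟨g, hg, rfl⟩ := (hP x).1 hx
    exact ⟨g, orderOf_eq_prime hg (by rintro rfl; exact hx1 rfl), rfl⟩
  · rintro ⟨g, hg, rfl⟩
    have hg' : g ^ r = 1 := hg ▸ pow_orderOf_eq_one g
    refine ⟨(hP _).2 ⟨g, hg', rfl⟩, fun h1 => ?_⟩
    have := isConj_one_left.1 ((h g 1 hg' (one_pow r)).2 h1)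
    rw [this, orderOf_one] at hg
    exact hr.one_lt.ne hg

end Classes

section Comb

instance finite_sum_eq {J : Type*} [Fintype J] (n : ℕ) : Finite {m : J → ℕ // ∑ j, m j = n} := by
  refine Finite.of_injective (fun m j => (⟨m.1 j, Nat.lt_succ_of_le ?_⟩ : Fin (n + 1))) ?_
  · exact (Finset.single_le_sum (f := m.1) (fun _ _ => Nat.zero_le _) (Finset.mem_univ j)).trans m.2.le
  · intro a b h
    ext j
    simpa using congrFun h j

theorem finite_sum_eq_and {J : Type*} [Fintype J] (n : ℕ) (P : (J → ℕ) → Prop) :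
    Finite {m : J → ℕ // ∑ j, m j = n ∧ P m} :=
  Finite.of_injective (fun m => (⟨m.1, m.2.1⟩ : {m : J → ℕ // ∑ j, m j = n}))
    fun _ _ h => Subtype.ext (by simpa using h)

theorem card_sum_eq {J : Type*} [Fintype J] (n : ℕ) :
    Nat.card {m : J → ℕ // ∑ j, m j = n} = (Fintype.card J + n - 1).choose n := by
  classical
  rw [← Finset.card_univ, ← Finset.card_finsuppAntidiag_nat_eq_choose, ← Nat.card_eq_finsetCard]
  exact Nat.card_congr (Finsupp.equivFunOnFinite.symm.subtypeEquiv fun m => by simp)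

theorem card_sum_le {J : Type*} [Fintype J] (n : ℕ) :
    Nat.card {m : J → ℕ // ∑ j, m j ≤ n} = (n + Fintype.card J).choose (Fintype.card J) := by
  have h := card_sum_eq (J := Option J) n
  rw [Fintype.card_option, show Fintype.card J + 1 + n - 1 = n + Fintype.card J by omega,
    Nat.choose_symm_add] at h
  rw [← h]
  exact Nat.card_congr
    { toFun := fun m => ⟨fun j => j.elim (n - ∑ j, m.1 j) m.1, by
        have := m.2
        simp [Fintype.sum_option]; omega⟩
      invFun := fun m => ⟨fun j => m.1 (some j), by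
        have := m.2
        rw [Fintype.sum_option] at this
        exact (Nat.le_add_left _ _).trans this.le⟩
      left_inv := fun m => rfl
      right_inv := fun m => by
        ext j
        have := m.2
        rw [Fintype.sum_option] at this
        cases j
        · simp; omega
        · rfl }

theorem sum_comp_mk {U : Type*} [Group U] [Fintype U] (H : Subgroup U) [Fintype (U ⧸ H)]
    (a : U ⧸ H → ℕ) : ∑ u : U, a (u : U ⧸ H) = Nat.card H * ∑ c, a c := by
  classical
  rw [← (Subgroup.groupEquivQuotientProdSubgroup (s := H)).symm.sum_comp, Fintype.sum_prod_type,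
    Finset.mul_sum]
  refine Finset.sum_congr rfl fun c _ => ?_
  rw [Finset.sum_congr rfl (g := fun _ => a c), Finset.sum_const, Finset.card_univ,
    Nat.card_eq_fintype_card, smul_eq_mul]
  intro h _
  congr 1
  have := (Subgroup.groupEquivQuotientProdSubgroup (s := H)).apply_symm_apply (c, h)
  exact congrArg Prod.fst this

/-- The number of multiplicity functions on a finite field invariant under a subgroup of the
multiplicative group. -/
theorem card_invariant {k : Type*} [Field k] [Fintype k] (H : Subgroup kˣ) (n s : ℕ)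
    (hs : s * Nat.card H = Fintype.card k - 1) :
    Nat.card {m : k → ℕ // ∑ j, m j = n ∧ ∀ h ∈ H, ∀ j, m (h * j) = m j} =
      (n / Nat.card H + s).choose s := by
  classical
  have hb : 0 < Nat.card H := Nat.card_pos
  have hs' : Fintype.card (kˣ ⧸ H) = s := by
    have := Subgroup.card_eq_card_quotient_mul_card_subgroup H
    rw [Nat.card_units, Nat.card_eq_fintype_card (α := k), ← hs, Nat.card_eq_fintype_card (α := kˣ ⧸ H)] at this
    exact (Nat.eq_of_mul_eq_mul_right hb this).symm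
  rw [← hs', ← card_sum_le]
  have hsum : ∀ m : k → ℕ, ∑ j, m j = m 0 + ∑ u : kˣ, m u := fun m => by
    rw [← (unitsEquivNeZero.trans (Equiv.refl _)).symm.sum_comp, Fintype.sum_eq_add_sum_subtype_ne _ 0]
    rfl
  let ext : ℕ → (kˣ ⧸ H → ℕ) → k → ℕ := fun n₀ a j =>
    if h : j = 0 then n₀ else a (Units.mk0 j h : kˣ)
  have hext : ∀ n₀ a (u : kˣ), ext n₀ a u = a (u : kˣ) := fun n₀ a u => by simp [ext]
  have hsum' : ∀ n₀ a, ∑ j, ext n₀ a j = n₀ + Nat.card H * ∑ c, a c := fun n₀ a => by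
    rw [hsum, ← sum_comp_mk]; simp [ext]
  have p1 : ∀ a : {a : kˣ ⧸ H → ℕ // ∑ c, a c ≤ n / Nat.card H},
      ∑ j, ext (n - Nat.card H * ∑ c, a.1 c) a.1 j = n := by
    intro a
    have := (Nat.le_div_iff_mul_le hb).1 a.2
    rw [hsum', mul_comm]; omega
  have p2 : ∀ n₀ a, ∀ h ∈ H, ∀ j : k, ext n₀ a (h * j) = ext n₀ a j := by
    intro n₀ a h hh j
    by_cases hj : j = 0
    · simp [hj]
    · rw [← Units.val_mk0 hj, ← Units.val_mul, hext, hext]
      congr 1
      rw [QuotientGroup.eq]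
      simpa using hh
  refine (Nat.card_congr (Equiv.ofBijective
    (fun a : {a : kˣ ⧸ H → ℕ // ∑ c, a c ≤ n / Nat.card H} => ⟨_, p1 a, p2 _ _⟩) ⟨?_, ?_⟩)).symm
  · intro a b hab
    ext c
    obtain ⟨u, rfl⟩ := QuotientGroup.mk_surjective c
    have := congrFun (congrArg Subtype.val hab) u
    simpa only [hext] using this
  · rintro ⟨m, hm, hH⟩
    let a : kˣ ⧸ H → ℕ := fun c => m (c.out : kˣ)
    have ha : ∀ u : kˣ, a (u : kˣ ⧸ H) = m u := by
      intro u
      obtain ⟨h, hh⟩ := QuotientGroup.mk_out_eq_mul H u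
      simp only [a, hh, Units.val_mul]
      rw [mul_comm, hH _ h.2]
    have h1 : n = m 0 + Nat.card H * ∑ c, a c := by
      rw [← hm, hsum, ← sum_comp_mk]; simp [ha]
    refine ⟨⟨a, (Nat.le_div_iff_mul_le hb).2 (by rw [mul_comm]; omega)⟩, Subtype.ext ?_⟩
    ext j
    by_cases hj : j = 0
    · simp only [ext, hj, dite_true]; omega
    · simp only [ext, hj, dite_false, ha, Units.val_mk0]

theorem invariant_zpowers_iff {k : Type*} [Field k] [Finite k] (u : kˣ) (m : k → ℕ) :
    (∀ h ∈ Subgroup.zpowers u, ∀ j, m (h * j) = m j) ↔ ∀ j, m (u * j) = m j := by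
  refine ⟨fun h => h u (Subgroup.mem_zpowers u), fun h v hv => ?_⟩
  obtain ⟨i, rfl⟩ := (mem_powers_iff_mem_zpowers.2 hv : v ∈ Submonoid.powers u)
  clear hv
  induction i with
  | zero => simp
  | succ i ih => intro j; simp only [pow_succ, Units.val_mul, mul_assoc] at ih ⊢; rw [ih, h]

end Comb

end Cfsg.Agent.Lib.GL.ClassCount
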