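import Mathlib
import Cfsg.Agent.Lib.GL.RingNorm2
import Cfsg.Agent.Lib.GL.Isom

/-!
Conjugacy in the finite general unitary group is controlled by the general linear group.
-/

set_option autoImplicit false

open Module Matrix Polynomial

namespace Cfsg.Agent.Lib.GL.HermConj

open Cfsg.Agent.Lib.GL.Herm Cfsg.Agent.Lib.GL.RingNorm Cfsg.Agent.Lib.GL.Isom
  Cfsg.Agent.Lib.GL.Sim

variable {K : Type*} [Field K] {ι : Type*} [Fintype ι] [DecidableEq ι] {σ : K →+* K}

/-- The conjugate transpose with respect to `σ`. -/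
def adj (ι : Type*) (σ : K →+* K) : Matrix ι ι K →+ Matrix ι ι K where
  toFun A := (A.map σ)ᵀ
  map_zero' := by ext; simp
  map_add' A B := by ext; simp

omit [Fintype ι] [DecidableEq ι] in
theorem adj_apply (A : Matrix ι ι K) : adj ι σ A = (A.map σ)ᵀ := rfl

omit [DecidableEq ι] in
theorem adj_mul (A B : Matrix ι ι K) : adj ι σ (A * B) = adj ι σ B * adj ι σ A := by
  simp [adj_apply, Matrix.map_mul]

omit [Fintype ι] in
theorem adj_one : adj ι σ 1 = 1 := by simp [adj_apply]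

omit [Fintype ι] [DecidableEq ι] in
theorem adj_smul (c : K) (A : Matrix ι ι K) : adj ι σ (c • A) = σ c • adj ι σ A := by
  ext; simp [adj_apply]

omit [Fintype ι] [DecidableEq ι] in
theorem adj_adj (hσ : IsInvol σ) (A : Matrix ι ι K) : adj ι σ (adj ι σ A) = A := by
  ext; simp [adj_apply, hσ.invol]

theorem antiInv_adj (hσ : IsInvol σ) : AntiInv (adj ι σ) := ⟨adj_one, adj_mul, adj_adj hσ⟩

theorem det_adj (A : Matrix ι ι K) : (adj ι σ A).det = σ A.det := by
  rw [adj_apply, det_transpose, RingHom.map_det]; rfl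

theorem unitary_iff (hσ : IsInvol σ) (A : Matrix ι ι K) :
    Aᵀ * A.map σ = 1 ↔ adj ι σ A * A = 1 := by
  have key : ∀ B : Matrix ι ι K, (Bᵀ * B.map σ).map σ = (B.map σ)ᵀ * (B.map σ).map σ := by
    intro B; rw [Matrix.map_mul]; rfl
  have h2 : (A.map σ).map σ = A := by ext; simp [hσ.invol]
  constructor
  · intro h
    have := key A
    rw [h, h2, Matrix.map_one _ (map_zero _) (map_one _)] at this
    exact this.symm
  · intro h
    have := key (A.map σ)
    rw [h2, ← adj_apply, h, Matrix.map_one _ (map_zero _) (map_one _)] at this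
    exact this.symm

omit [DecidableEq ι] in
theorem stdHerm_adj (hσ : IsInvol σ) (A : Matrix ι ι K) (u v : ι → K) :
    stdHerm ι σ (A *ᵥ u) v = stdHerm ι σ u (adj ι σ A *ᵥ v) := by
  simp only [stdHerm_apply, mulVec, dotProduct, adj_apply, map_sum, Finset.sum_mul, Finset.mul_sum,
    transpose_apply, map_apply, map_mul, hσ.invol]
  rw [Finset.sum_comm]
  exact Finset.sum_congr rfl fun _ _ => Finset.sum_congr rfl fun _ _ => by ring

theorem mem_GU_iff_adj {q n : ℕ} (hσq : ∀ a, σ a = a ^ q) (hσ : IsInvol σ) (g : GL (Fin n) K) :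
    g ∈ Cfsg.GU n K q ↔ adj (Fin n) σ g * (g : Matrix (Fin n) (Fin n) K) = 1 := by
  rw [mem_GU_iff' hσq, unitary_iff hσ]

theorem isUnit_smul_one {c : K} (hc : c ≠ 0) : IsUnit (c • (1 : Matrix ι ι K)) := by
  rw [← Algebra.algebraMap_eq_smul_one]
  exact (Ne.isUnit hc).map _

variable [Finite K]

/-- An invertible hermitian matrix is `adj y * y` with `y` commuting with everything that commutes
with it. -/
theorem exists_adj_mul_self (hσ : IsInvol σ) {H : Matrix ι ι K} (hH : IsUnit H)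
    (hHa : adj ι σ H = H) :
    ∃ y : GL ι K, (∀ A, Commute H A → Commute (y : Matrix ι ι K) A) ∧ adj ι σ y * y = H := by
  obtain ⟨a, ha⟩ := hσ.ne
  obtain ⟨y, ⟨u, rfl⟩, h1, h2⟩ := (antiInv_adj hσ).exists_norm (δ := a • 1) hH hHa
    ((Commute.one_left _).smul_left a) ((Commute.one_left _).smul_left a) (by
      rw [adj_smul, adj_one, ← sub_smul]
      exact isUnit_smul_one (sub_ne_zero.2 ha.symm))
  refine ⟨u, fun A hA => h1 A hA ((Commute.one_left _).smul_left a) ?_, h2⟩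
  rw [adj_smul, adj_one]
  exact (Commute.one_left _).smul_left _

/-- Unitary matrices conjugate in `GL` are conjugate by a unitary matrix. -/
theorem exists_unitary_conj (hσ : IsInvol σ) {A B : Matrix ι ι K} (hA : adj ι σ A * A = 1)
    (hB : adj ι σ B * B = 1) (P : GL ι K) (hP : (P : Matrix ι ι K) * A = B * P) :
    ∃ Q : GL ι K, adj ι σ Q * (Q : Matrix ι ι K) = 1 ∧ (Q : Matrix ι ι K) * A = B * Q := by
  have hA' := mul_eq_one_comm.1 hA
  obtain ⟨y, h1, h2⟩ := exists_adj_mul_self hσ (H := adj ι σ P * (P : Matrix ι ι K))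
    (((antiInv_adj hσ).isUnit P.isUnit).mul P.isUnit) (by rw [adj_mul, adj_adj hσ])
  have h3 : adj ι σ P * B = A * adj ι σ P := by
    have := congrArg (adj ι σ) hP
    rw [adj_mul, adj_mul] at this
    calc adj ι σ P * B = A * (adj ι σ A * adj ι σ P) * B := by rw [← mul_assoc A, hA', one_mul]
      _ = A * adj ι σ P := by rw [this, mul_assoc, mul_assoc, hB, mul_one]
  have h4 : Commute (y : Matrix ι ι K) A := h1 A (by
    rw [Commute, SemiconjBy, mul_assoc, hP, ← mul_assoc, h3, mul_assoc])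
  refine ⟨P * y⁻¹, ?_, ?_⟩
  · rw [Units.val_mul, adj_mul, mul_assoc, ← mul_assoc _ (P : Matrix ι ι K), ← h2, ← mul_assoc,
      ← mul_assoc, ← adj_mul, y.mul_inv, adj_one, one_mul, y.mul_inv]
  · rw [Units.val_mul, mul_assoc, h4.units_inv_left.eq, ← mul_assoc, hP, mul_assoc]

/-- A matrix preserving a non-degenerate sesquilinear form is conjugate to a unitary matrix. -/
theorem exists_conj_unitary (hσ : IsInvol σ) (A P : GL ι K)
    (hP : adj ι σ A * P * A = (P : Matrix ι ι K)) :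
    ∃ y : GL ι K, adj ι σ (y * A * y⁻¹ : GL ι K) * (y * A * y⁻¹ : GL ι K) = 1 := by
  obtain ⟨c, hc⟩ := hσ.ne
  have e1 : ((P⁻¹ : GL ι K) : Matrix ι ι K) * adj ι σ (c • 1) * P = σ c • 1 := by
    rw [adj_smul, adj_one, mul_smul_comm, mul_one, smul_mul_assoc, P.inv_mul]
  obtain ⟨a, h1, h2⟩ := (antiInv_adj hσ).exists_herm P (δ := c • 1) 1 rfl
    ((Commute.one_left _).smul_left c) ((Commute.one_left _).smul_left c) (by
      rw [e1, ← sub_smul]
      exact isUnit_smul_one (sub_ne_zero.2 hc.symm))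
  have hP' : adj ι σ A * adj ι σ P * A = adj ι σ P := by
    have := congrArg (adj ι σ) hP
    rwa [adj_mul, adj_mul, adj_adj hσ, ← mul_assoc] at this
  have h3 : Commute a A := h1 A (by
    have hu := (antiInv_adj hσ).isUnit A.isUnit
    refine (hu.mul P.isUnit).mul_left_cancel ?_
    rw [← mul_assoc, ← mul_assoc, ← mul_assoc, ← mul_assoc, hP, mul_assoc _ _ (P⁻¹ : GL ι K).1,
      P.mul_inv, mul_one, one_mul, hP']) ((Commute.one_left _).smul_left c) (by
    rw [e1]; exact (Commute.one_left _).smul_left _)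
  rw [one_smul] at h2
  obtain ⟨y, -, hy⟩ := exists_adj_mul_self hσ h2 (by rw [map_add, adj_adj hσ, add_comm])
  have h4 : adj ι σ A * (P * a) * A = P * a := by
    rw [mul_assoc, mul_assoc, h3.eq, ← mul_assoc, ← mul_assoc, hP]
  have h5 : adj ι σ A * (adj ι σ y * y) * A = adj ι σ y * y := by
    have := congrArg (adj ι σ) h4
    rw [adj_mul, adj_mul, adj_adj hσ, ← mul_assoc] at this
    rw [hy, mul_add, add_mul, h4, this]
  refine ⟨y, ?_⟩
  rw [Units.val_mul, Units.val_mul, adj_mul, adj_mul]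
  calc _ = adj ι σ (y⁻¹ : GL ι K) * (adj ι σ A * (adj ι σ y * y) * A) * (y⁻¹ : GL ι K) := by
        simp only [mul_assoc]
    _ = 1 := by
        rw [h5, ← mul_assoc, ← adj_mul, y.mul_inv, adj_one, one_mul, y.mul_inv]

end Cfsg.Agent.Lib.GL.HermConj

namespace Cfsg.Agent.Lib.GL.HermConj

open Cfsg.Agent.Lib.GL.Herm Cfsg.Agent.Lib.GL.Sim

variable {K : Type*} [Field K] [Fintype K] {q n : ℕ}

theorem isConj_GU_iff (hK : Fintype.card K = q ^ 2) (A B : Cfsg.GU n K q) :
    IsConj A B ↔ IsConj (A : GL (Fin n) K) (B : GL (Fin n) K) := by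
  refine ⟨fun h => (Cfsg.GU n K q).subtype.map_isConj h, fun h => ?_⟩
  obtain ⟨σ, hσq, hσ⟩ := exists_isInvol hK
  obtain ⟨P, hP⟩ := isConj_iff.1 h
  rw [mul_inv_eq_iff_eq_mul] at hP
  obtain ⟨Q, h1, h2⟩ := exists_unitary_conj hσ ((mem_GU_iff_adj hσq hσ _).1 A.2)
    ((mem_GU_iff_adj hσq hσ _).1 B.2) P (congrArg Units.val hP)
  refine isConj_iff.2 ⟨⟨Q, (mem_GU_iff_adj hσq hσ _).2 h1⟩, ?_⟩
  rw [mul_inv_eq_iff_eq_mul]
  exact Subtype.ext (Units.ext h2)

theorem exists_GU_isConj_iff {σ : K →+* K} (hσq : ∀ a, σ a = a ^ q) (hσ : IsInvol σ)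
    (A : GL (Fin n) K) :
    (∃ B : Cfsg.GU n K q, IsConj A (B : GL (Fin n) K)) ↔
      IsConj (A : Matrix (Fin n) (Fin n) K) (adj (Fin n) σ (A⁻¹ : GL (Fin n) K)) := by
  constructor
  · rintro ⟨B, hB⟩
    obtain ⟨P, hP⟩ := isConj_iff.1 hB
    have hu := (antiInv_adj (ι := Fin n) hσ).isUnit P.isUnit
    refine ⟨hu.unit * P, ?_⟩
    have h1 := (mem_GU_iff_adj hσq hσ _).1 B.2
    rw [← hP, Units.val_mul, Units.val_mul, adj_mul, adj_mul] at h1
    have h2 : adj (Fin n) σ A * (adj (Fin n) σ P * P) * A = adj (Fin n) σ P * P := by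
      calc _ = adj (Fin n) σ P * (adj (Fin n) σ (P⁻¹ : GL (Fin n) K) *
          (adj (Fin n) σ A * adj (Fin n) σ P) * (P * A * (P⁻¹ : GL (Fin n) K))) * P := by
            have h3 : adj (Fin n) σ P * adj (Fin n) σ (P⁻¹ : GL (Fin n) K) = 1 := by
              rw [← adj_mul, P.inv_mul, adj_one]
            simp only [← mul_assoc, h3, one_mul]
            rw [Units.inv_mul_cancel_right]
        _ = _ := by rw [h1, mul_one]
    rw [SemiconjBy, Units.val_mul, IsUnit.unit_spec]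
    conv_rhs => rw [← h2, ← mul_assoc, ← mul_assoc, ← adj_mul, A.mul_inv, adj_one, one_mul]
  · rintro ⟨P, hP⟩
    obtain ⟨y, hy⟩ := exists_conj_unitary hσ A P (by
      rw [mul_assoc, hP.eq, ← mul_assoc, ← adj_mul, A.inv_mul, adj_one, one_mul])
    exact ⟨⟨_, (mem_GU_iff_adj hσq hσ _).2 hy⟩, isConj_iff.2 ⟨y, rfl⟩⟩

end Cfsg.Agent.Lib.GL.HermConj
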