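import Mathlib
import Cfsg.Prelude.Def_JordanBlocks
import Cfsg.Agent.Lib.GL.Similar
import Cfsg.Agent.Lib.GL.Count

/-!
Jordan bases of nilpotent endomorphisms and the structure of their centralisers.
-/

set_option autoImplicit false

open Module Matrix Polynomial

namespace Cfsg.Agent.Lib.GL.Jordan

open Cfsg.Agent.Lib.GL.Sim Cfsg.Agent.Lib.GL.Count

variable {K : Type*} [Field K] {V : Type*} [AddCommGroup V] [Module K V]
variable {ι : Type*} {d : ι → ℕ}

/-- The basis vector `b ⟨k, a⟩`, or zero when `a` is out of range. -/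
noncomputable def bb (b : Basis (Σ k, Fin (d k)) K V) (k : ι) (a : ℕ) : V :=
  if h : a < d k then b ⟨k, ⟨a, h⟩⟩ else 0

theorem bb_fin (b : Basis (Σ k, Fin (d k)) K V) (k : ι) (a : Fin (d k)) : bb b k a = b ⟨k, a⟩ := by
  simp [bb]

theorem bb_of_le (b : Basis (Σ k, Fin (d k)) K V) {k : ι} {a : ℕ} (h : d k ≤ a) : bb b k a = 0 := by
  simp [bb, not_lt.2 h]

/-- The coordinate at `⟨k, a⟩`, or zero when `a` is out of range. -/
noncomputable def co (b : Basis (Σ k, Fin (d k)) K V) (k : ι) (a : ℕ) : V →ₗ[K] K :=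
  if h : a < d k then b.coord ⟨k, ⟨a, h⟩⟩ else 0

theorem co_fin (b : Basis (Σ k, Fin (d k)) K V) (k : ι) (a : Fin (d k)) (v : V) :
    co b k a v = b.repr v ⟨k, a⟩ := by
  simp [co]

theorem co_of_le (b : Basis (Σ k, Fin (d k)) K V) {k : ι} {a : ℕ} (h : d k ≤ a) : co b k a = 0 := by
  simp [co, not_lt.2 h]

theorem co_bb [DecidableEq ι] (b : Basis (Σ k, Fin (d k)) K V) (k l : ι) (a c : ℕ) :
    co b k a (bb b l c) = if l = k ∧ c = a ∧ a < d k then 1 else 0 := by
  classical
  unfold co bb
  by_cases h1 : a < d k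
  · by_cases h2 : c < d l
    · rw [dif_pos h1, dif_pos h2, Basis.coord_apply, Basis.repr_self, Finsupp.single_apply]
      congr 1
      apply propext
      constructor
      · intro h
        obtain ⟨rfl, h'⟩ := Sigma.mk.inj_iff.1 h
        exact ⟨rfl, by simpa using h', h1⟩
      · rintro ⟨rfl, rfl, -⟩; rfl
    · rw [dif_neg h2, map_zero, if_neg]
      rintro ⟨rfl, rfl, h⟩; exact h2 h
  · simp [h1]

theorem eq_zero_of_co {b : Basis (Σ k, Fin (d k)) K V} {v : V} (h : ∀ k a, a < d k → co b k a v = 0) :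
    v = 0 := by
  refine b.repr.map_eq_zero_iff.1 (Finsupp.ext fun x => ?_)
  rw [← co_fin]; exact h _ _ x.2.2

/-- `b` is a Jordan basis for `N` of type `d`. -/
structure IsJordan (N : End K V) (d : ι → ℕ) (b : Basis (Σ k, Fin (d k)) K V) : Prop where
  pos : ∀ k, 0 < d k
  step : ∀ k a, N (bb b k a) = bb b k (a + 1)

variable {N : End K V} {b : Basis (Σ k, Fin (d k)) K V}

namespace IsJordan

variable (h : IsJordan N d b)
include h

theorem pow_bb (j : ℕ) (k : ι) (a : ℕ) : (N ^ j) (bb b k a) = bb b k (a + j) := by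
  induction j with
  | zero => simp
  | succ j ih => rw [pow_succ', End.mul_apply, ih, h.step, add_assoc]

theorem pow_gen (k : ι) (a : ℕ) : (N ^ a) (bb b k 0) = bb b k a := by rw [h.pow_bb, zero_add]

theorem pow_gen_eq_zero {k : ι} {a : ℕ} (ha : d k ≤ a) : (N ^ a) (bb b k 0) = 0 := by
  rw [h.pow_gen, bb_of_le _ ha]

theorem co_pow (j : ℕ) (k : ι) (a : ℕ) (v : V) :
    co b k a ((N ^ j) v) = if j ≤ a ∧ a < d k then co b k (a - j) v else 0 := by
  classical
  have : co b k a ∘ₗ (N ^ j) = if j ≤ a ∧ a < d k then co b k (a - j) else 0 := by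
    refine b.ext fun ⟨l, c⟩ => ?_
    rw [← bb_fin, LinearMap.comp_apply, h.pow_bb, co_bb]
    split_ifs with h1 h2 h2
    · rw [co_bb, if_pos ⟨h1.1, by omega, by omega⟩]
    · omega
    · rw [co_bb, if_neg]
      rintro ⟨h3, h4, -⟩; exact h1 ⟨h3, by omega, h2.2⟩
    · rfl
  have h2 := LinearMap.congr_fun this v
  rw [LinearMap.comp_apply] at h2
  rw [h2]; split_ifs <;> rfl

theorem co_zero_apply (k : ι) (v : V) : co b k 0 (N v) = 0 := by
  simpa using h.co_pow 1 k 0 v

theorem pow_apply_eq_zero_iff (j : ℕ) (v : V) :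
    (N ^ j) v = 0 ↔ ∀ k a, a + j < d k → co b k a v = 0 := by
  constructor
  · intro hv k a ha
    have := h.co_pow j k (a + j) v
    rw [hv, map_zero, if_pos ⟨by omega, ha⟩, Nat.add_sub_cancel] at this
    exact this.symm
  · intro hv
    refine eq_zero_of_co (b := b) fun k a ha => ?_
    rw [h.co_pow]
    split_ifs with h1
    · exact hv _ _ (by omega)
    · rfl

theorem pow_eq_zero {j : ℕ} (hj : ∀ k, d k ≤ j) : N ^ j = 0 :=
  LinearMap.ext fun v => (h.pow_apply_eq_zero_iff j v).2 fun k a ha => by have := hj k; omega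

theorem congr {W : Type*} [AddCommGroup W] [Module K W] {N' : End K W} (e : V ≃ₗ[K] W)
    (he : ∀ v, e (N v) = N' (e v)) : IsJordan N' d (b.map e) where
  pos := h.pos
  step k a := by
    have : ∀ a, bb (b.map e) k a = e (bb b k a) := fun a => by
      unfold bb; split_ifs <;> simp
    rw [this, this, ← he, h.step]

variable [Fintype ι]

theorem finrank_eq : finrank K V = ∑ k, d k := by
  rw [finrank_eq_card_basis b]; simp

theorem finrank_ker_pow (j : ℕ) : finrank K (LinearMap.ker (N ^ j)) = ∑ k, min j (d k) := by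
  classical
  let S : Set (Σ k, Fin (d k)) := {x | d x.1 ≤ x.2 + j}
  have h1 : LinearMap.ker (N ^ j) = Submodule.span K (Set.range (b ∘ (Subtype.val : S → _))) := by
    ext v
    rw [Set.range_comp, Subtype.range_coe, Basis.mem_span_image, LinearMap.mem_ker,
      h.pow_apply_eq_zero_iff]
    constructor
    · intro hv x hx
      by_contra hx'
      have := hv x.1 x.2 (not_le.1 hx')
      rw [co_fin] at this
      exact (Finsupp.mem_support_iff.1 hx) this
    · intro hv k a ha
      by_contra h0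
      have h1 : a < d k := by omega
      rw [show a = (⟨a, h1⟩ : Fin (d k)) from rfl, co_fin] at h0
      have : d k ≤ a + j := hv (Finsupp.mem_support_iff.2 h0)
      omega
  rw [h1, finrank_span_eq_card (b.linearIndependent.comp _ Subtype.val_injective),
    Fintype.card_subtype, Finset.card_filter, Fintype.sum_sigma]
  refine Finset.sum_congr rfl fun k _ => ?_
  rw [← Finset.card_filter]
  have h2 := Finset.card_filter_add_card_filter_not (s := Finset.univ)
    (fun a : Fin (d k) => (a : ℕ) < d k - j)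
  rw [Fin.card_filter_val_lt, Finset.card_univ, Fintype.card_fin] at h2
  have h3 : (Finset.univ.filter fun a : Fin (d k) => (⟨k, a⟩ : Σ k, Fin (d k)) ∈ S) =
      Finset.univ.filter fun a : Fin (d k) => ¬ (a : ℕ) < d k - j :=
    Finset.filter_congr fun a _ => by simp only [S, Set.mem_ofPred_eq]; omega
  rw [h3]
  omega

theorem kdE_X_pow (j : ℕ) : kdE N (X ^ j) = ∑ k, min j (d k) := by
  rw [kdE, map_pow, aeval_X, h.finrank_ker_pow]

omit h in
theorem eq_sum_gen_add (h : IsJordan N d b) (v : V) :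
    ∃ w, v = ∑ k, co b k 0 v • bb b k 0 + N w := by
  classical
  have : v - ∑ k, co b k 0 v • bb b k 0 ∈ LinearMap.range N := by
    have h1 : LinearMap.range (LinearMap.id - ∑ k, (co b k 0).smulRight (bb b k 0)) ≤
        LinearMap.range N := by
      rw [LinearMap.range_eq_map, ← b.span_eq, Submodule.map_span, Submodule.span_le]
      rintro _ ⟨_, ⟨⟨l, c, hc⟩, rfl⟩, rfl⟩
      rw [← bb_fin]
      simp only [LinearMap.sub_apply, LinearMap.id_apply, LinearMap.sum_apply,
        LinearMap.smulRight_apply, co_bb]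
      rcases c with _ | c
      · simp [h.pos]
      · exact ⟨bb b l c, by simp [h.step]⟩
    exact h1 ⟨v, by simp⟩
  obtain ⟨w, hw⟩ := this
  exact ⟨w, by rw [hw]; abel⟩

end IsJordan

/-- The matrix of an endomorphism on the generators, modulo the range of `N`. -/
noncomputable def genMat (b : Basis (Σ k, Fin (d k)) K V) : End K V →ₗ[K] Matrix ι ι K where
  toFun g := Matrix.of fun k l => co b k 0 (g (bb b l 0))
  map_add' _ _ := by ext; simp
  map_smul' _ _ := by ext; simp

theorem genMat_apply (b : Basis (Σ k, Fin (d k)) K V) (g : End K V) (k l : ι) :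
    genMat b g k l = co b k 0 (g (bb b l 0)) := rfl

/-- The endomorphism commuting with `N` with prescribed values on the generators. -/
noncomputable def ofGen (N : End K V) (b : Basis (Σ k, Fin (d k)) K V) (w : ι → V) : End K V :=
  b.constr K fun x => (N ^ (x.2 : ℕ)) (w x.1)

namespace IsJordan

variable (h : IsJordan N d b)
include h

theorem ofGen_bb {w : ι → V} (hw : ∀ k, (N ^ d k) (w k) = 0) (k : ι) (a : ℕ) :
    ofGen N b w (bb b k a) = (N ^ a) (w k) := by
  by_cases ha : a < d k
  · rw [show a = (⟨a, ha⟩ : Fin (d k)) from rfl, bb_fin, ofGen, Basis.constr_basis]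
  · obtain ⟨c, rfl⟩ := Nat.exists_eq_add_of_le (not_lt.1 ha)
    rw [bb_of_le _ (by omega), map_zero, add_comm, pow_add, End.mul_apply, hw, map_zero]

theorem commute_ofGen {w : ι → V} (hw : ∀ k, (N ^ d k) (w k) = 0) : Commute (ofGen N b w) N :=
  b.ext fun ⟨k, a⟩ => by
    rw [← bb_fin, End.mul_apply, End.mul_apply, h.step, h.ofGen_bb hw, h.ofGen_bb hw, pow_succ',
      End.mul_apply]

theorem apply_bb {g : End K V} (hg : Commute g N) (k : ι) (a : ℕ) :
    g (bb b k a) = (N ^ a) (g (bb b k 0)) := by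
  rw [← h.pow_gen, ← End.mul_apply, (hg.pow_right a).eq, End.mul_apply]

theorem pow_apply_gen {g : End K V} (hg : Commute g N) (k : ι) : (N ^ d k) (g (bb b k 0)) = 0 := by
  rw [← h.apply_bb hg, bb_of_le _ le_rfl, map_zero]

theorem ext_gen {g g' : End K V} (hg : Commute g N) (hg' : Commute g' N)
    (e : ∀ k, g (bb b k 0) = g' (bb b k 0)) : g = g' :=
  b.ext fun ⟨k, a⟩ => by rw [← bb_fin, h.apply_bb hg, h.apply_bb hg', e]

theorem genMat_blockTriangular {g : End K V} (hg : Commute g N) :
    (genMat b g).BlockTriangular d := fun k l hkl =>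
  (h.pow_apply_eq_zero_iff _ _).1 (h.pow_apply_gen hg l) k 0 (by simpa using hkl)

theorem genMat_one [DecidableEq ι] : genMat b 1 = 1 := by
  ext k l
  simp [genMat_apply, co_bb, one_apply, h.pos, eq_comm]

variable [Fintype ι]

theorem co_zero_apply_of_commute {g : End K V} (hg : Commute g N) (k : ι) (v : V) :
    co b k 0 (g v) = ∑ l, genMat b g k l * co b l 0 v := by
  obtain ⟨w, hw⟩ := h.eq_sum_gen_add v
  conv_lhs => rw [hw, map_add, ← End.mul_apply g N, hg.eq, End.mul_apply, map_add, h.co_zero_apply]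
  simp [genMat_apply, mul_comm]

theorem genMat_mul {g : End K V} (hg : Commute g N) (g' : End K V) :
    genMat b (g * g') = genMat b g * genMat b g' := by
  ext k l
  rw [genMat_apply, End.mul_apply, h.co_zero_apply_of_commute hg, Matrix.mul_apply]
  rfl

theorem exists_pow_eq_zero : ∃ j, N ^ j = 0 :=
  ⟨Finset.univ.sup d, h.pow_eq_zero fun k => Finset.le_sup (Finset.mem_univ k)⟩

theorem isUnit_iff_genMat [DecidableEq ι] {g : End K V} (hg : Commute g N) :
    IsUnit g ↔ IsUnit (genMat b g) := by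
  have : FiniteDimensional K V := Module.Finite.of_basis b
  constructor
  · rintro ⟨u, rfl⟩
    refine IsUnit.of_mul_eq_one (genMat b (u⁻¹ : (End K V)ˣ)) ?_
    rw [← h.genMat_mul hg, u.mul_inv, h.genMat_one]
  · rintro ⟨u, hu⟩
    rw [LinearMap.isUnit_iff_range_eq_top, eq_top_iff]
    have h1 : ∀ v, ∃ x w, v = g x + N w := by
      intro v
      let c : ι → K := (u⁻¹ : GL ι K) *ᵥ fun k => co b k 0 v
      obtain ⟨w, hw⟩ := h.eq_sum_gen_add (v - g (∑ l, c l • bb b l 0))
      refine ⟨∑ l, c l • bb b l 0, w, ?_⟩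
      have h2 : ∀ k, co b k 0 (v - g (∑ l, c l • bb b l 0)) = 0 := by
        intro k
        have h3 : genMat b g *ᵥ c = fun k => co b k 0 v := by
          rw [← hu, mulVec_mulVec, u.mul_inv, one_mulVec]
        rw [map_sub, ← congrFun h3 k]
        simp [genMat_apply, mulVec, dotProduct, mul_comm]
      simp only [h2, zero_smul, Finset.sum_const_zero, zero_add] at hw
      rw [← hw]; abel
    have h2 : ∀ (j : ℕ) v, ∃ x w, v = g x + (N ^ j) w := by
      intro j v
      induction j with
      | zero => exact ⟨0, v, by simp⟩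
      | succ j ih =>
        obtain ⟨x, w, rfl⟩ := ih
        obtain ⟨x', w', rfl⟩ := h1 w
        refine ⟨x + (N ^ j) x', w', ?_⟩
        rw [map_add, map_add, ← End.mul_apply (N ^ j) g, ← (hg.pow_right j).eq, pow_succ,
          End.mul_apply, End.mul_apply, add_assoc]
    intro v _
    obtain ⟨j, hj⟩ := h.exists_pow_eq_zero
    obtain ⟨x, w, rfl⟩ := h2 j v
    exact ⟨x, by simp [hj]⟩

theorem isNilpotent_of_genMat {g : End K V} (hg : Commute g N) (h0 : genMat b g = 0) :
    IsNilpotent g := by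
  have h1 : ∀ v, ∃ w, g v = N w := fun v => by
    obtain ⟨w, hw⟩ := h.eq_sum_gen_add (g v)
    exact ⟨w, by simpa [h.co_zero_apply_of_commute hg, h0] using hw⟩
  have h2 : ∀ (j : ℕ) v, ∃ w, (g ^ j) v = (N ^ j) w := by
    intro j v
    induction j with
    | zero => exact ⟨v, rfl⟩
    | succ j ih =>
      obtain ⟨w, hw⟩ := ih
      obtain ⟨w', hw'⟩ := h1 w
      exact ⟨w', by rw [pow_succ', End.mul_apply, hw, ← End.mul_apply, (hg.pow_right j).eq,
        End.mul_apply, hw', pow_succ, End.mul_apply]⟩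
  obtain ⟨j, hj⟩ := h.exists_pow_eq_zero
  exact ⟨j, LinearMap.ext fun v => by obtain ⟨w, hw⟩ := h2 j v; simpa [hj] using hw⟩

theorem exists_genMat_eq [DecidableEq ι] {M : Matrix ι ι K} (hM : M.BlockTriangular d) :
    ∃ g : End K V, Commute g N ∧ genMat b g = M := by
  have hw : ∀ l, (N ^ d l) (∑ k, M k l • bb b k 0) = 0 := by
    intro l
    rw [map_sum]
    refine Finset.sum_eq_zero fun k _ => ?_
    rcases lt_or_ge (d l) (d k) with h1 | h1
    · rw [hM h1, zero_smul, map_zero]
    · rw [map_smul, h.pow_gen_eq_zero h1, smul_zero]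
  refine ⟨_, h.commute_ofGen hw, ?_⟩
  ext k l
  rw [genMat_apply, h.ofGen_bb hw]
  simp [co_bb, h.pos]

theorem card_commute [Fintype K] :
    Nat.card {g : End K V // Commute g N} = Fintype.card K ^ (∑ k, ∑ l, min (d k) (d l)) := by
  have : FiniteDimensional K V := Module.Finite.of_basis b
  rw [Nat.card_congr (β := ∀ k, LinearMap.ker (N ^ d k))
    { toFun := fun g k => ⟨g.1 (bb b k 0), h.pow_apply_gen g.2 k⟩
      invFun := fun w => ⟨ofGen N b fun k => w k, h.commute_ofGen fun k => (w k).2⟩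
      left_inv := fun g => Subtype.ext (h.ext_gen (h.commute_ofGen (h.pow_apply_gen g.2)) g.2
        fun k => by simp [h.ofGen_bb (h.pow_apply_gen g.2)])
      right_inv := fun w => funext fun k => Subtype.ext (by
        simp [h.ofGen_bb (w := fun k => w k) fun k => (w k).2]) },
    Nat.card_pi, ← Finset.prod_pow_eq_pow_sum]
  refine Finset.prod_congr rfl fun k _ => ?_
  rw [Module.natCard_eq_pow_finrank (K := K), h.finrank_ker_pow, Nat.card_eq_fintype_card]

end IsJordan

end Cfsg.Agent.Lib.GL.Jordan
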