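import Mathlib
import Cfsg.Agent.Lib.GL.Jordan

/-!
Diagonal blocks of the centraliser of a nilpotent endomorphism, the order of the centraliser in
`GL`, existence of Jordan bases.
-/

set_option autoImplicit false

open Module Matrix Polynomial

namespace Cfsg.Agent.Lib.GL.Jordan

open Cfsg.Agent.Lib.GL.Sim Cfsg.Agent.Lib.GL.Count

variable {K : Type*} [Field K] {V : Type*} [AddCommGroup V] [Module K V]
variable {ι : Type*} [Fintype ι] [DecidableEq ι] {d : ι → ℕ}

section Blocks

theorem isUnit_iff_blocks {M : Matrix ι ι K} (hM : M.BlockTriangular d) :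
    IsUnit M ↔ ∀ i, IsUnit (M.toSquareBlock d i) := by
  simp only [isUnit_iff_isUnit_det, isUnit_iff_ne_zero, hM.det, Finset.prod_ne_zero_iff]
  refine ⟨fun h i => ?_, fun h i _ => h i⟩
  by_cases hi : i ∈ Finset.univ.image d
  · exact h i hi
  · have : IsEmpty {k // d k = i} := ⟨fun k => hi (Finset.mem_image.2 ⟨k, by simp, k.2⟩)⟩
    simp

theorem isUnit_iff_blocks_of_subset {M : Matrix ι ι K} (hM : M.BlockTriangular d) {s : Finset ℕ}
    (hs : ∀ k, d k ∈ s) : IsUnit M ↔ ∀ i : s, IsUnit (M.toSquareBlock d i) := by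
  rw [isUnit_iff_blocks hM]
  refine ⟨fun h i => h i, fun h i => ?_⟩
  by_cases hi : i ∈ s
  · exact h ⟨i, hi⟩
  · have : IsEmpty {k // d k = i} := ⟨fun k => hi (k.2 ▸ hs k)⟩
    exact isUnit_of_subsingleton _

omit [DecidableEq ι] in
theorem sum_eq_sum_block {i : ℕ} (f : ι → K) (hf : ∀ k, d k ≠ i → f k = 0) :
    ∑ k, f k = ∑ k : {k // d k = i}, f k := by
  rw [← Finset.sum_subtype (Finset.univ.filter fun k => d k = i) (by simp), Finset.sum_filter_of_ne]
  intro k _ hk
  by_contra h
  exact hk (hf k h)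

omit [DecidableEq ι] in
theorem toSquareBlock_mul {M M' : Matrix ι ι K} (hM : M.BlockTriangular d)
    (hM' : M'.BlockTriangular d) (i : ℕ) :
    (M * M').toSquareBlock d i = M.toSquareBlock d i * M'.toSquareBlock d i := by
  ext ⟨k, hk⟩ ⟨l, hl⟩
  simp only [toSquareBlock_def, of_apply, mul_apply]
  refine sum_eq_sum_block _ fun m hm => ?_
  rcases lt_or_gt_of_ne hm with h | h
  · rw [hM (by omega), zero_mul]
  · rw [hM' (by omega), mul_zero]

omit [Fintype ι] [DecidableEq ι] in
theorem exists_blockTriangular (s : Finset ℕ)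
    (T : ∀ i : s, Matrix {k // d k = i} {k // d k = i} K) :
    ∃ M : Matrix ι ι K, M.BlockTriangular d ∧ ∀ i : s, M.toSquareBlock d i = T i := by
  refine ⟨Matrix.of fun k l => if h : d k = d l ∧ d l ∈ s then T ⟨d l, h.2⟩ ⟨k, h.1⟩ ⟨l, rfl⟩ else 0,
    fun k l h => ?_, ?_⟩
  · rw [of_apply, dif_neg (fun h' => h.ne' h'.1)]
  · rintro ⟨i, hi⟩
    ext ⟨k, hk⟩ ⟨l, hl⟩
    dsimp only at hk hl
    subst hl
    simp only [toSquareBlock_def, of_apply]
    rw [dif_pos ⟨hk, hi⟩]

end Blocks

section Count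

theorem card_preimage_mul {A T : Type*} [AddGroup A] [AddGroup T] [Finite A] (Φ : A →+ T)
    (hΦ : Function.Surjective Φ) (U : T → Prop) :
    Nat.card {a // U (Φ a)} * Nat.card T = Nat.card A * Nat.card {t // U t} := by
  have hf : ∀ t, Nonempty ({a // Φ a = t} ≃ Φ.ker) := fun t => by
    obtain ⟨a, rfl⟩ := hΦ t
    exact ⟨⟨fun x => ⟨-a + x.1, by simp [x.2]⟩, fun x => ⟨a + x.1, by simp [Φ.mem_ker.1 x.2]⟩,
      fun x => by simp, fun x => by simp⟩⟩
  have h1 := card_eq_mul_of_fibers Φ hf
  have h2 := card_eq_mul_of_fibers (Z := {a // U (Φ a)}) (A := {t // U t}) (C := Φ.ker)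
    (fun a => ⟨Φ a.1, a.2⟩) fun t => ⟨(⟨fun x => ⟨x.1.1, congrArg Subtype.val x.2⟩,
      fun x => ⟨⟨x.1, x.2.symm ▸ t.2⟩, Subtype.ext x.2⟩, fun _ => rfl, fun _ => rfl⟩ :
        _ ≃ {a // Φ a = t.1}).trans (hf t.1).some⟩
  rw [h1, h2]; ring

/-- The order of `GL_a(q)`. -/
def glOrder (q a : ℕ) : ℕ := ∏ j : Fin a, (q ^ a - q ^ (j : ℕ))

theorem card_isUnit_matrix [Fintype K] (κ : Type*) [Fintype κ] [DecidableEq κ] :
    Nat.card {M : Matrix κ κ K // IsUnit M} = glOrder (Fintype.card K) (Fintype.card κ) := by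
  rw [glOrder, ← Matrix.card_GL_field, Nat.card_congr (Units.mapEquiv
    (reindexAlgEquiv K K (Fintype.equivFin κ).symm).toMulEquiv).toEquiv]
  exact Nat.card_congr
    { toFun := fun M => M.2.unit
      invFun := fun u => ⟨u, u.isUnit⟩
      left_inv := fun M => by simp
      right_inv := fun u => by simp }

theorem card_matrix' [Fintype K] (κ : Type*) [Fintype κ] :
    Nat.card (Matrix κ κ K) = Fintype.card K ^ (Fintype.card κ ^ 2) := by
  rw [Matrix, Nat.card_fun, Nat.card_fun, ← pow_mul]; simp [pow_two]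

theorem card_pi_subtype {α : Type*} [Fintype α] {β : α → Type*} (p : ∀ a, β a → Prop) :
    Nat.card {f : ∀ a, β a // ∀ a, p a (f a)} = ∏ a, Nat.card {x // p a x} := by
  rw [Nat.card_congr Equiv.subtypePiEquivPi, Nat.card_pi]

end Count

variable {N : End K V} {b : Basis (Σ k, Fin (d k)) K V}

/-- The centraliser of `N` as a subspace. -/
def cent (N : End K V) : Submodule K (End K V) where
  carrier := {g | Commute g N}
  add_mem' := Commute.add_left
  zero_mem' := Commute.zero_left N
  smul_mem' c _ h := h.smul_left c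

/-- The diagonal blocks of an endomorphism. -/
noncomputable def blocks (b : Basis (Σ k, Fin (d k)) K V) (s : Finset ℕ) :
    End K V →ₗ[K] ∀ i : s, Matrix {k // d k = i} {k // d k = i} K where
  toFun g i := (genMat b g).toSquareBlock d i
  map_add' _ _ := by ext; simp [toSquareBlock_def]
  map_smul' _ _ := by ext; simp [toSquareBlock_def]

omit [Fintype ι] [DecidableEq ι] in
theorem blocks_apply (s : Finset ℕ) (g : End K V) (i : s) :
    blocks b s g i = (genMat b g).toSquareBlock d i := rfl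

namespace IsJordan

variable (h : IsJordan N d b)
include h

theorem isUnit_iff_blocks {s : Finset ℕ} (hs : ∀ k, d k ∈ s) {g : End K V} (hg : Commute g N) :
    IsUnit g ↔ ∀ i, IsUnit (blocks b s g i) := by
  rw [h.isUnit_iff_genMat hg, isUnit_iff_blocks_of_subset (h.genMat_blockTriangular hg) hs]
  rfl

theorem exists_blocks_eq (s : Finset ℕ) (T : ∀ i : s, Matrix {k // d k = i} {k // d k = i} K) :
    ∃ g, Commute g N ∧ blocks b s g = T := by
  obtain ⟨M, h1, h2⟩ := exists_blockTriangular s T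
  obtain ⟨g, h3, rfl⟩ := h.exists_genMat_eq h1
  exact ⟨g, h3, funext h2⟩

omit [DecidableEq ι] in
theorem blocks_mul (s : Finset ℕ) {g g' : End K V} (hg : Commute g N) (hg' : Commute g' N) :
    blocks b s (g * g') = blocks b s g * blocks b s g' := by
  ext1 i
  rw [blocks_apply, h.genMat_mul hg,
    toSquareBlock_mul (h.genMat_blockTriangular hg) (h.genMat_blockTriangular hg')]
  rfl

omit [Fintype ι] in
theorem blocks_one (s : Finset ℕ) : blocks b s 1 = 1 := by
  ext i k l
  simp [blocks_apply, h.genMat_one, toSquareBlock_def, one_apply, Subtype.ext_iff]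

theorem card_isUnit_commute [Fintype K] {s : Finset ℕ} (hs : ∀ k, d k ∈ s) :
    Nat.card {g : End K V // Commute g N ∧ IsUnit g} *
        Fintype.card K ^ (∑ i ∈ s, Fintype.card {k // d k = i} ^ 2) =
      Fintype.card K ^ (∑ k, ∑ l, min (d k) (d l)) *
        ∏ i ∈ s, glOrder (Fintype.card K) (Fintype.card {k // d k = i}) := by
  have : FiniteDimensional K V := Module.Finite.of_basis b
  have : Finite V := Module.finite_of_finite K
  have : Finite (End K V) := Finite.of_injective _ DFunLike.coe_injective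
  have h1 := card_preimage_mul ((blocks b s).domRestrict (cent N)).toAddMonoidHom
    (fun T => by obtain ⟨g, h1, h2⟩ := h.exists_blocks_eq s T; exact ⟨⟨g, h1⟩, h2⟩)
    (fun T => ∀ i, IsUnit (T i))
  rw [card_pi_subtype (fun i (M : Matrix _ _ K) => IsUnit M), Nat.card_pi] at h1
  simp only [card_isUnit_matrix, card_matrix'] at h1
  rw [Finset.prod_pow_eq_pow_sum, Finset.sum_coe_sort s (fun i => Fintype.card {k // d k = i} ^ 2),
    Finset.prod_coe_sort s (fun i => glOrder (Fintype.card K) (Fintype.card {k // d k = i}))] at h1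
  rw [← h.card_commute, ← show Nat.card (cent N) = Nat.card {g : End K V // Commute g N} from rfl,
    ← h1]
  congr 1
  exact Nat.card_congr
    { toFun := fun g => ⟨⟨g.1, g.2.1⟩, (h.isUnit_iff_blocks hs g.2.1).1 g.2.2⟩
      invFun := fun g => ⟨g.1.1, g.1.2, (h.isUnit_iff_blocks hs g.1.2).2 g.2⟩
      left_inv := fun _ => rfl
      right_inv := fun _ => rfl }

end IsJordan

omit [DecidableEq ι] in
theorem sum_min_eq {s : Finset ℕ} (hs : ∀ k, d k ∈ s) (hd : ∀ k, 1 ≤ d k) :
    ∑ k, ∑ l, min (d k) (d l) = 2 * (∑ i ∈ s, ∑ j ∈ s, if i < j then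
      i * Fintype.card {k // d k = i} * Fintype.card {k // d k = j} else 0) +
      ∑ i ∈ s, (i - 1) * Fintype.card {k // d k = i} ^ 2 +
      ∑ i ∈ s, Fintype.card {k // d k = i} ^ 2 := by
  have key : ∀ f : ℕ → ℕ, ∑ k, f (d k) = ∑ i ∈ s, Fintype.card {k // d k = i} * f i := by
    intro f
    rw [← Finset.sum_fiberwise_of_maps_to (s := Finset.univ) (t := s) (g := d) (fun k _ => hs k)]
    refine Finset.sum_congr rfl fun i _ => ?_
    rw [Finset.sum_congr rfl (g := fun _ => f i) (fun k hk => by rw [(Finset.mem_filter.1 hk).2]),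
      Finset.sum_const, Fintype.card_subtype, smul_eq_mul]
  set a : ℕ → ℕ := fun i => Fintype.card {k // d k = i} with ha
  have ha0 : a 0 = 0 := Fintype.card_eq_zero_iff.2 ⟨fun k => by have := hd k; have := k.2; omega⟩
  have h1 : ∑ k, ∑ l, min (d k) (d l) = ∑ i ∈ s, ∑ j ∈ s, a i * (a j * min i j) := by
    rw [key (fun i => ∑ l, min i (d l))]
    exact Finset.sum_congr rfl fun i _ => by rw [key (fun j => min i j), Finset.mul_sum]
  have h2 : ∀ i j, a i * (a j * min i j) = (if i < j then i * a i * a j else 0) +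
      (if j < i then j * a j * a i else 0) + if i = j then i * a i ^ 2 else 0 := by
    intro i j
    rcases lt_trichotomy i j with h | rfl | h
    · rw [if_pos h, if_neg h.not_gt, if_neg h.ne, min_eq_left h.le]; ring
    · simp; ring
    · rw [if_neg h.not_gt, if_pos h, if_neg h.ne', min_eq_right h.le]; ring
  simp only [h1, h2, Finset.sum_add_distrib, Finset.sum_ite_eq]
  rw [Finset.sum_comm (f := fun i j => if j < i then j * a j * a i else 0), ← two_mul, add_assoc,
    ← Finset.sum_add_distrib]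
  congr 1
  refine Finset.sum_congr rfl fun i hi => ?_
  rw [if_pos hi]
  rcases i with _ | i
  · change 0 * a 0 ^ 2 = _ * a 0 ^ 2 + a 0 ^ 2
    simp [ha0]
  · simp only [Nat.add_sub_cancel]; ring

/-- The unipotent Jordan matrix of type `d`. -/
def jordanMat (d : ι → ℕ) (K : Type*) [Field K] : Matrix (Σ k, Fin (d k)) (Σ k, Fin (d k)) K :=
  Matrix.blockDiagonal' fun k => Cfsg.jordanBlock (d k) K

theorem isJordan_std (hd : ∀ k, 0 < d k) :
    IsJordan (toLin' (jordanMat d K - 1)) d (Pi.basisFun K _) where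
  pos := hd
  step k a := by
    by_cases ha : a < d k
    · ext ⟨l, c⟩
      rw [bb, dif_pos ha, toLin'_apply, Pi.basisFun_apply, mulVec_single_one, col_apply, Matrix.sub_apply,
        jordanMat, one_apply, bb]
      by_cases hl : l = k
      · subst hl
        rw [blockDiagonal'_apply_eq, Cfsg.jordanBlock, of_apply]
        split_ifs with h1 h2 h3 h4 h5 h6 h7 h8 h9 <;>
          simp_all [Pi.single_apply, Fin.ext_iff] <;> omega
      · rw [blockDiagonal'_apply_ne _ _ _ hl, if_neg (by simp [hl])]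
        split_ifs <;> simp [hl]
    · rw [bb_of_le _ (not_lt.1 ha), bb_of_le _ (by omega), map_zero]

omit [DecidableEq ι] in
theorem exists_isJordan [FiniteDimensional K V] (hd : ∀ k, 0 < d k) (hV : finrank K V = ∑ k, d k)
    (hN : ∀ j, finrank K (LinearMap.ker (N ^ j)) = ∑ k, min j (d k)) :
    ∃ b, IsJordan N d b := by
  classical
  have h := isJordan_std (K := K) hd
  have hD : ∀ k, d k ≤ Finset.univ.sup d := fun k => Finset.le_sup (Finset.mem_univ k)
  generalize toLin' (jordanMat d K - 1) = N₀ at h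
  have h0 : ∀ j, ((X : K[X]) - C 0) ^ j = X ^ j := by simp
  obtain ⟨e, he⟩ := exists_equiv_of_kdE_eq N₀ N (kdE_eq_of_pow_X_sub_C 0 (n := Finset.univ.sup d)
    (by simpa using h.pow_eq_zero hD)
    (aeval_eq_zero_of_kdE (by
      rw [h0, kdE, hV, map_pow, aeval_X, hN]
      exact Finset.sum_congr rfl fun k _ => min_eq_right (hD k)))
    (fun j _ => by rw [h0, h.kdE_X_pow, kdE, map_pow, aeval_X, hN]))
  exact ⟨_, h.congr e he⟩

theorem exists_jordan_type [FiniteDimensional K V] {p : ℕ} (hN : N ^ p = 0) :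
    ∃ (t : ℕ) (d : Fin t → ℕ) (b : Basis (Σ k, Fin (d k)) K V), IsJordan N d b ∧ ∀ k, d k ≤ p := by
  classical
  obtain ⟨L, h1, h2⟩ := exists_list_kdE N
  have h3 : ∀ m ∈ L, m = X ^ m.natDegree ∧ m.natDegree ≤ p := by
    intro m hm
    obtain ⟨i, hi, hm'⟩ := (dvd_prime_pow prime_X p).1 ((h1 m hm).2.2 (X ^ p) (by simpa using hN))
    have := eq_of_monic_of_associated (h1 m hm).1 (monic_X_pow i) hm'
    rw [this, natDegree_X_pow]
    exact ⟨rfl, hi⟩
  have h4 : ∀ j, finrank K (LinearMap.ker (N ^ j)) = ∑ k : Fin L.length, min j L[k].natDegree := by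
    intro j
    have := h2 (X ^ j)
    rw [kdE, map_pow, aeval_X, ← Fin.sum_univ_fun_getElem] at this
    rw [this]
    refine Finset.sum_congr rfl fun k _ => ?_
    have hk := (h3 _ (List.getElem_mem k.2)).1
    have h5 : Associated (EuclideanDomain.gcd (X ^ j) L[k.1]) (X ^ min j L[k].natDegree) := by
      conv_lhs => rw [hk]
      refine associated_of_dvd_dvd ?_ (EuclideanDomain.dvd_gcd (pow_dvd_pow _ (min_le_left _ _))
        (pow_dvd_pow _ (min_le_right _ _)))
      rcases le_total j L[k].natDegree with h | h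
      · rw [min_eq_left h]; exact EuclideanDomain.gcd_dvd_left _ _
      · rw [min_eq_right h]; exact EuclideanDomain.gcd_dvd_right _ _
    rw [natDegree_eq_of_degree_eq (degree_eq_degree_of_associated h5), natDegree_X_pow]
  have h5 : ∀ k : Fin L.length, L[k].natDegree ≤ p := fun k => (h3 _ (List.getElem_mem k.2)).2
  obtain ⟨b, hb⟩ := exists_isJordan (N := N) (d := fun k : Fin L.length => L[k].natDegree)
    (fun k => (h1 _ (List.getElem_mem k.2)).2.1) (by
      have := h4 p
      rw [hN, LinearMap.ker_zero, finrank_top] at this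
      rw [this]
      exact Finset.sum_congr rfl fun k _ => min_eq_right (h5 k)) h4
  exact ⟨_, _, b, hb, h5⟩

end Cfsg.Agent.Lib.GL.Jordan
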