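import Mathlib
import Cfsg.Prelude.Def_ClassicalGeometry
import Cfsg.Agent.Lib.GL.Jordan2
import Cfsg.Agent.Lib.GL.ClassCount

/-!
Regular unipotent elements, transvections, unipotent classes of `GL_n`, splitting of classes in
normal subgroups.
-/

set_option autoImplicit false

open Module Matrix Polynomial

namespace Cfsg.Agent.Lib.GL.Jordan

open Cfsg.Agent.Lib.GL.Sim Cfsg.Agent.Lib.GL.Count Cfsg.Agent.Lib.GL.ClassCount

variable {K : Type*} [Field K] {V : Type*} [AddCommGroup V] [Module K V]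
variable {κ : Type*} [Fintype κ] [DecidableEq κ]

theorem finrank_ker_add_rank (A : Matrix κ κ K) :
    finrank K (LinearMap.ker (toLin' A)) + A.rank = Fintype.card κ := by
  have := kdM_add_rank A X
  rwa [kdM_eq, aeval_X] at this

theorem commute_toLin'_iff {A B : Matrix κ κ K} : Commute (toLin' A) (toLin' B) ↔ Commute A B := by
  rw [Commute, SemiconjBy, End.mul_eq_comp, End.mul_eq_comp, ← toLin'_mul, ← toLin'_mul,
    toLin'.injective.eq_iff]
  rfl

theorem commute_sub_one_iff {R : Type*} [Ring R] {a b : R} : Commute a (b - 1) ↔ Commute a b :=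
  ⟨fun h => by simpa using h.add_right (Commute.one_right a),
    fun h => h.sub_right (Commute.one_right a)⟩

theorem isUnit_toLin'_iff' {A : Matrix κ κ K} : IsUnit (toLin' A) ↔ IsUnit A :=
  ⟨fun h => by simpa using h.map (LinearMap.toMatrixAlgEquiv' (R := K) (n := κ)),
    fun h => h.map (toLinAlgEquiv' (R := K) (n := κ))⟩

theorem card_commute_GL (u : Matrix κ κ K) :
    Nat.card {g : GL κ K // (g : Matrix κ κ K) * u = u * g} =
      Nat.card {g : End K (κ → K) // Commute g (toLin' (u - 1)) ∧ IsUnit g} :=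
  Nat.card_congr (Equiv.ofBijective (fun g => ⟨toLin' g.1.1,
    commute_toLin'_iff.2 (commute_sub_one_iff.2 g.2), isUnit_toLin'_iff'.2 g.1.isUnit⟩)
    ⟨fun a b h => Subtype.ext (Units.ext (toLin'.injective (congrArg Subtype.val h))), by
      rintro ⟨g, h1, h2⟩
      obtain ⟨A, rfl⟩ := toLin'.surjective g
      obtain ⟨A, rfl⟩ := isUnit_toLin'_iff'.1 h2
      exact ⟨⟨A, commute_sub_one_iff.1 (commute_toLin'_iff.1 h1)⟩, rfl⟩⟩)

theorem card_centralizer_GL (u : GL κ K) :
    Nat.card (Subgroup.centralizer ({u} : Set (GL κ K))) =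
      Nat.card {g : End K (κ → K) // Commute g (toLin' ((u : Matrix κ κ K) - 1)) ∧ IsUnit g} := by
  rw [← card_commute_GL]
  exact Nat.card_congr (Equiv.subtypeEquivRight fun g => by
    rw [Subgroup.mem_centralizer_singleton_iff, Units.ext_iff]; rfl)

theorem exists_isJordan_regular [FiniteDimensional K V] {N : End K V} {n p : ℕ} (hnil : N ^ p = 0)
    (hV : finrank K V = n) (hker : finrank K (LinearMap.ker N) = 1) :
    ∃ b, IsJordan N (fun _ : Unit => n) b := by
  obtain ⟨t, d, b, h, -⟩ := exists_jordan_type hnil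
  have h1 := h.finrank_ker_pow 1
  rw [pow_one, hker, Finset.sum_congr rfl fun k _ => min_eq_left (h.pos k)] at h1
  obtain rfl : t = 1 := by simpa using h1.symm
  have h2 : d 0 = n := by simpa [hV] using h.finrank_eq.symm
  refine exists_isJordan (fun _ => h2 ▸ h.pos 0) (by simp [hV]) fun j => ?_
  rw [h.finrank_ker_pow]; simp [h2]

theorem exists_isJordan_regular_mat {u : Matrix κ κ K} {n p : ℕ} (hn : 1 ≤ n)
    (hκ : Fintype.card κ = n) (hnil : (u - 1) ^ p = 0) (hreg : (u - 1).rank = n - 1) :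
    ∃ b, IsJordan (toLin' (u - 1)) (fun _ : Unit => n) b :=
  exists_isJordan_regular (p := p) (by rw [← toLin'_pow, hnil, map_zero]) (by simp [hκ])
    (by have := finrank_ker_add_rank (u - 1); omega)

/-- The Jordan type of a transvection. -/
def trType (m : ℕ) : Option (Fin m) → ℕ := fun k => k.elim 2 fun _ => 1

theorem exists_isJordan_transvection {n : ℕ} {t : Matrix (Fin n) (Fin n) K} (hn : 2 ≤ n)
    (ht : Cfsg.IsTransvection t) : ∃ b, IsJordan (toLin' (t - 1)) (trType (n - 2)) b := by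
  refine exists_isJordan (fun k => by cases k <;> simp [trType]) (by
    simp [trType, Fintype.sum_option]; omega) fun j => ?_
  rcases j with _ | _ | j
  · simp [End.one_eq_id]
  · have := finrank_ker_add_rank (t - 1)
    rw [ht.1, Fintype.card_fin] at this
    rw [zero_add, pow_one]
    simp [trType, Fintype.sum_option, -map_sub]; omega
  · rw [← toLin'_pow, pow_succ, pow_succ, mul_assoc, ht.2, mul_zero, map_zero, LinearMap.ker_zero]
    simp [trType, Fintype.sum_option]; omega

theorem IsJordan.isConj {ι : Type*} [Fintype ι] {d : ι → ℕ} {u u' : Matrix κ κ K} {b b'}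
    (h : IsJordan (toLin' (u - 1)) d b) (h' : IsJordan (toLin' (u' - 1)) d b') : IsConj u u' := by
  obtain ⟨j, hj⟩ := h.exists_pow_eq_zero
  obtain ⟨j', hj'⟩ := h'.exists_pow_eq_zero
  have e : ∀ (A : Matrix κ κ K) (i : ℕ), aeval (toLin' A) ((X - C 1 : K[X]) ^ i) =
      toLin' (A - 1) ^ i := fun A i => by simp [End.one_eq_id]
  refine isConj_iff_kdM.2 (kdE_eq_of_pow_X_sub_C 1 (n := j + j') ?_ ?_ fun i _ => ?_)
  · rw [e, pow_add, hj, zero_mul]
  · rw [e, pow_add, hj', mul_zero]
  · rw [kdE, kdE, e, e, h.finrank_ker_pow, h'.finrank_ker_pow]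

theorem IsJordan.of_isConj {ι : Type*} {d : ι → ℕ} {u u' : Matrix κ κ K} {b}
    (h : IsJordan (toLin' (u - 1)) d b) (hu : IsConj u u') :
    ∃ b', IsJordan (toLin' (u' - 1)) d b' := by
  obtain ⟨P, hP⟩ := hu
  refine ⟨_, h.congr (toLin'OfInv P.inv_mul P.mul_inv) fun v => ?_⟩
  change P.1 *ᵥ ((u - 1) *ᵥ v) = (u' - 1) *ᵥ (P.1 *ᵥ v)
  rw [mulVec_mulVec, mulVec_mulVec, mul_sub, sub_mul, hP.eq, mul_one, one_mul]

theorem isJordan_reindex {ι : Type*} [Fintype ι] [DecidableEq ι] {d : ι → ℕ} (hd : ∀ k, 0 < d k)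
    (e : (Σ k, Fin (d k)) ≃ κ) :
    ∃ b, IsJordan (toLin' (reindex e e (jordanMat d K) - 1)) d b := by
  refine ⟨_, (isJordan_std hd).congr (LinearEquiv.funCongrLeft K K e.symm) fun v => ?_⟩
  have : reindex e e (jordanMat d K) - 1 = (jordanMat d K - 1).submatrix e.symm e.symm := by
    ext i j; simp [one_apply]
  rw [this, toLin'_apply, toLin'_apply, submatrix_mulVec_equiv]
  ext i
  simp [Function.comp_def]

theorem det_smul_one_add_of_isNilpotent [FiniteDimensional K V] (c : K) {h : End K V}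
    (hn : IsNilpotent h) : LinearMap.det (c • 1 + h) = c ^ finrank K V := by
  have := LinearMap.eval_charpoly (-h) c
  rw [hn.neg.charpoly_eq_X_pow_finrank] at this
  simpa [Algebra.algebraMap_eq_smul_one] using this.symm

/-- An endomorphism commuting with a regular nilpotent one is a scalar plus a nilpotent. -/
theorem IsJordan.exists_eq_smul_add {N : End K V} {n : ℕ} {b} (h : IsJordan N (fun _ : Unit => n) b)
    {g : End K V} (hg : Commute g N) :
    IsNilpotent (g - genMat b g () () • 1) := by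
  refine h.isNilpotent_of_genMat (hg.sub_left ((Commute.one_left N).smul_left _)) ?_
  ext ⟨⟩ ⟨⟩
  simp [h.genMat_one]

theorem IsJordan.det_eq_pow {N : End K V} {n : ℕ} {b} (h : IsJordan N (fun _ : Unit => n) b)
    {g : End K V} (hg : Commute g N) : LinearMap.det g = genMat b g () () ^ n := by
  have : FiniteDimensional K V := Module.Finite.of_basis b
  have h1 := det_smul_one_add_of_isNilpotent (genMat b g () ()) (h.exists_eq_smul_add hg)
  rw [add_sub_cancel, h.finrank_eq] at h1
  simpa using h1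

theorem IsJordan.exists_det_eq {ι : Type*} [Fintype ι] {d : ι → ℕ} {N : End K V} {b}
    (h : IsJordan N d b) (c : ι → K) :
    ∃ g, Commute g N ∧ LinearMap.det g = ∏ k, c k ^ d k := by
  classical
  have hw : ∀ k, (N ^ d k) (c k • bb b k 0) = 0 := fun k => by
    rw [map_smul, h.pow_gen_eq_zero le_rfl, smul_zero]
  refine ⟨_, h.commute_ofGen hw, ?_⟩
  rw [← LinearMap.det_toMatrix b]
  have : LinearMap.toMatrix b b (ofGen N b fun k => c k • bb b k 0) = diagonal fun x => c x.1 := by
    ext x ⟨k, a⟩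
    rw [LinearMap.toMatrix_apply, ← bb_fin, h.ofGen_bb hw, map_smul, h.pow_gen, bb_fin]
    by_cases hx : x = ⟨k, a⟩
    · simp [hx]
    · simp [hx, Finsupp.single_apply, Ne.symm hx]
  rw [this, det_diagonal, Fintype.prod_sigma]
  simp

/-- Invariant subspaces of a regular nilpotent endomorphism. -/
theorem IsJordan.eq_ker_pow {N : End K V} {n : ℕ} {b} (h : IsJordan N (fun _ : Unit => n) b)
    (W : Submodule K V) (hW : ∀ v ∈ W, N v ∈ W) : W = LinearMap.ker (N ^ finrank K W) := by
  have : FiniteDimensional K V := Module.Finite.of_basis b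
  refine Submodule.eq_of_le_of_finrank_le (fun v hv => ?_) (by simp [h.finrank_ker_pow])
  have h1 : IsNilpotent (N.restrict hW) := Module.End.isNilpotent.restrict hW h.exists_pow_eq_zero
  have h2 := LinearMap.aeval_self_charpoly (N.restrict hW)
  rw [h1.charpoly_eq_X_pow_finrank, map_pow, aeval_X, Module.End.pow_restrict] at h2
  exact congrArg Subtype.val (LinearMap.congr_fun h2 ⟨v, hv⟩)

section Split

/-- The splitting of a conjugacy class in the kernel of a homomorphism to a commutative group. -/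
theorem card_classes_split {G H A : Type*} [Group G] [Group H] [CommGroup A] (i : H →* G)
    (hi : Function.Injective i) (δ : G →* A) (hδ : Function.Surjective δ) (hker : i.range = δ.ker)
    (x₀ : H) (p : H → Prop) (hp : ∀ x, p x ↔ IsConj (i x₀) (i x)) :
    Nat.card {C : ConjClasses H // ∃ x, ConjClasses.mk x = C ∧ p x} =
      ((Subgroup.centralizer {i x₀}).map δ).index := by
  classical
  set D := (Subgroup.centralizer {i x₀}).map δ
  have key : ∀ (x x' : H) (g g' : G), g * i x₀ * g⁻¹ = i x → g' * i x₀ * g'⁻¹ = i x' →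
      (IsConj x x' ↔ (δ g : A ⧸ D) = δ g') := by
    intro x x' g g' hg hg'
    rw [QuotientGroup.eq]
    constructor
    · intro h
      obtain ⟨y, rfl⟩ := isConj_iff.1 h
      refine ⟨g⁻¹ * (i y)⁻¹ * g', ?_, ?_⟩
      · rw [SetLike.mem_coe, Subgroup.mem_centralizer_singleton_iff]
        rw [map_mul, map_mul, map_inv, ← hg] at hg'
        calc _ = g⁻¹ * (i y)⁻¹ * (g' * i x₀ * g'⁻¹) * g' := by group
          _ = _ := by rw [hg']; group
      · have : δ (i y) = 1 := by rw [← MonoidHom.mem_ker, ← hker]; exact ⟨y, rfl⟩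
        simp [this]
    · rintro ⟨c, hc, hc'⟩
      rw [SetLike.mem_coe, Subgroup.mem_centralizer_singleton_iff] at hc
      obtain ⟨y, hy⟩ : g' * c⁻¹ * g⁻¹ ∈ i.range := by
        rw [hker, MonoidHom.mem_ker]; simp [hc']
      refine isConj_iff.2 ⟨y, hi ?_⟩
      rw [map_mul, map_mul, map_inv, hy, ← hg, ← hg']
      calc _ = g' * c⁻¹ * (i x₀ * c) * g'⁻¹ := by group
        _ = _ := by rw [← hc]; group
  let Φ : H → A ⧸ D := fun x => if h : p x then δ (isConj_iff.1 ((hp x).1 h)).choose else 1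
  rw [card_classes_of_iff p Φ (fun _ => True), Nat.card_congr (Equiv.subtypeUnivEquiv fun _ => trivial)]
  · rfl
  · intro x x' hx hx'
    simp only [Φ, dif_pos hx, dif_pos hx']
    exact key _ _ _ _ (isConj_iff.1 ((hp x).1 hx)).choose_spec (isConj_iff.1 ((hp x').1 hx')).choose_spec
  · intro a
    obtain ⟨a, rfl⟩ := QuotientGroup.mk_surjective a
    obtain ⟨g, rfl⟩ := hδ a
    obtain ⟨x, hx⟩ : g * i x₀ * g⁻¹ ∈ i.range := by
      have : δ (i x₀) = 1 := by rw [← MonoidHom.mem_ker, ← hker]; exact ⟨x₀, rfl⟩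
      rw [hker, MonoidHom.mem_ker]; simp [this]
    have hpx : p x := (hp x).2 (isConj_iff.2 ⟨g, hx.symm⟩)
    refine ⟨fun _ => ⟨x, hpx, ?_⟩, fun _ => trivial⟩
    simp only [Φ, dif_pos hpx]
    exact (key _ _ _ _ (isConj_iff.1 ((hp x).1 hpx)).choose_spec hx.symm).1 (IsConj.refl _)

theorem isConj_of_centralizer {G H A : Type*} [Group G] [Group H] [CommGroup A] (i : H →* G)
    (hi : Function.Injective i) (δ : G →* A) (hker : i.range = δ.ker) {x y : H}
    (h : IsConj (i x) (i y)) (hc : ∀ g, ∃ c, Commute c (i x) ∧ δ c = δ g) : IsConj x y := by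
  obtain ⟨g, hg⟩ := isConj_iff.1 h
  obtain ⟨c, hc, hc'⟩ := hc g
  obtain ⟨z, hz⟩ : g * c⁻¹ ∈ i.range := by rw [hker, MonoidHom.mem_ker]; simp [hc']
  refine isConj_iff.2 ⟨z, hi ?_⟩
  rw [map_mul, map_mul, map_inv, hz, ← hg]
  calc _ = g * c⁻¹ * (i x * c) * g⁻¹ := by group
    _ = _ := by rw [← hc.eq]; group

end Split

section Partitions

/-- The kernel dimensions attached to a multiset of block sizes. -/
def minSum (s : Multiset ℕ) (j : ℕ) : ℕ := (s.map (min j)).sum

theorem minSum_second_diff (s : Multiset ℕ) (j : ℕ) :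
    minSum s (j + 2) + minSum s j + s.count (j + 1) = 2 * minSum s (j + 1) := by
  induction s using Multiset.induction_on with
  | empty => simp [minSum]
  | cons a s ih =>
    simp only [minSum, Multiset.map_cons, Multiset.sum_cons, Multiset.count_cons] at ih ⊢
    split_ifs <;> omega

theorem minSum_parts_injective {n : ℕ} :
    Function.Injective fun μ : Nat.Partition n => minSum μ.parts := by
  intro μ ν h
  ext j
  rcases j with _ | j
  · rw [Multiset.count_eq_zero.2 fun h => (μ.parts_pos h).ne rfl,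
      Multiset.count_eq_zero.2 fun h => (ν.parts_pos h).ne rfl]
  · have h1 := minSum_second_diff μ.parts j
    have h2 := minSum_second_diff ν.parts j
    simp only at h
    rw [h] at h1
    omega

/-- The partition given by a family of positive block sizes. -/
def partOf {ι : Type*} [Fintype ι] {n : ℕ} (d : ι → ℕ) (hd : ∀ k, 0 < d k) (hn : ∑ k, d k = n) :
    Nat.Partition n where
  parts := Finset.univ.val.map d
  parts_pos := by simpa using hd
  parts_sum := hn

theorem minSum_partOf {ι : Type*} [Fintype ι] {n : ℕ} (d : ι → ℕ) (hd : ∀ k, 0 < d k)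
    (hn : ∑ k, d k = n) (j : ℕ) : minSum (partOf d hd hn).parts j = ∑ k, min j (d k) := by
  simp [minSum, partOf]

theorem exists_partOf_eq {n : ℕ} (μ : Nat.Partition n) :
    ∃ (t : ℕ) (d : Fin t → ℕ) (hd : ∀ k, 0 < d k) (hn : ∑ k, d k = n), partOf d hd hn = μ := by
  have h : Finset.univ.val.map (fun k : Fin μ.parts.toList.length => μ.parts.toList[k]) = μ.parts := by
    conv_rhs => rw [← μ.parts.coe_toList, ← List.ofFn_getElem (xs := μ.parts.toList)]
    rw [Fin.univ_val_map]
    rfl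
  refine ⟨_, fun k : Fin μ.parts.toList.length => μ.parts.toList[k],
    fun k => μ.parts_pos (Multiset.mem_toList.1 (List.getElem_mem k.2)), ?_, Nat.Partition.ext h⟩
  exact (congrArg Multiset.sum h).trans μ.parts_sum

/-- The kernel dimensions of the powers of `u - 1`. -/
noncomputable def kerSeq (u : Matrix κ κ K) (j : ℕ) : ℕ :=
  finrank K (LinearMap.ker (toLin' (u - 1) ^ j))

theorem kerSeq_eq_kdM (u : Matrix κ κ K) (j : ℕ) : kerSeq u j = kdM u ((X - C 1) ^ j) := by
  have : aeval (toLin' u) ((X - C 1 : K[X]) ^ j) = toLin' (u - 1) ^ j := by simp [End.one_eq_id]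
  rw [kerSeq, kdM, kdE, this]

theorem isConj_iff_kerSeq {u u' : Matrix κ κ K} {p : ℕ} (h : (u - 1) ^ p = 0) (h' : (u' - 1) ^ p = 0) :
    IsConj u u' ↔ kerSeq u = kerSeq u' := by
  refine ⟨fun hc => funext fun j => by rw [kerSeq_eq_kdM, kerSeq_eq_kdM, isConj_iff_kdM.1 hc],
    fun hc => isConj_iff_kdM.2 (kdE_eq_of_pow_X_sub_C 1 (n := p) ?_ ?_ fun j _ => ?_)⟩
  · rw [aeval_toLin'_eq_zero]; simpa using h
  · rw [aeval_toLin'_eq_zero]; simpa using h'
  · exact (kerSeq_eq_kdM u j).symm.trans ((congrFun hc j).trans (kerSeq_eq_kdM u' j))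

theorem exists_partition_kerSeq {u : Matrix κ κ K} {p n : ℕ} (hκ : Fintype.card κ = n)
    (h : (u - 1) ^ p = 0) :
    ∃ μ : Nat.Partition n, (∀ a ∈ μ.parts, a ≤ p) ∧ minSum μ.parts = kerSeq u := by
  obtain ⟨t, d, b, hb, hp⟩ := exists_jordan_type (N := toLin' (u - 1)) (p := p)
    (by rw [← toLin'_pow, h, map_zero])
  refine ⟨partOf d hb.pos (by rw [← hb.finrank_eq]; simp [hκ]), ?_, funext fun j => ?_⟩
  · simpa [partOf] using hp
  · rw [minSum_partOf, kerSeq, hb.finrank_ker_pow]

theorem isUnit_of_unipotent {R : Type*} [Ring R] {u : R} {p : ℕ} (h : (u - 1) ^ p = 0) : IsUnit u := by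
  simpa using IsNilpotent.isUnit_add_one ⟨p, h⟩

theorem exists_kerSeq_eq {p n : ℕ} (hκ : Fintype.card κ = n) (μ : Nat.Partition n)
    (hμ : ∀ a ∈ μ.parts, a ≤ p) :
    ∃ u : GL κ K, ((u : Matrix κ κ K) - 1) ^ p = 0 ∧ kerSeq (u : Matrix κ κ K) = minSum μ.parts := by
  obtain ⟨t, d, hd, hn, rfl⟩ := exists_partOf_eq μ
  obtain ⟨b, hb⟩ := isJordan_reindex (K := K) hd
    (Fintype.equivOfCardEq (by simp [hκ, hn]) : (Σ k, Fin (d k)) ≃ κ)
  have h1 := hb.pow_eq_zero (j := p) fun k => hμ _ (by simp [partOf])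
  rw [← toLin'_pow, LinearEquiv.map_eq_zero_iff] at h1
  obtain ⟨u, hu⟩ := isUnit_of_unipotent h1
  exact ⟨u, hu ▸ h1, funext fun j => by rw [hu, minSum_partOf, kerSeq, hb.finrank_ker_pow]⟩

theorem pow_char_eq_one_iff {p : ℕ} [Fact p.Prime] [CharP K p] (u : Matrix κ κ K) :
    u ^ p = 1 ↔ (u - 1) ^ p = 0 := by
  have h : ((X - 1 : K[X])) ^ p = X ^ p - 1 := by rw [sub_pow_char, one_pow]
  have := congrArg (aeval u) h
  simp only [map_pow, map_sub, aeval_X, map_one] at this
  rw [this, sub_eq_zero]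

/-- Classes of elements of order `p` in a linear group in which conjugacy is controlled by `GL` and
all unipotent classes occur. -/
theorem card_classes_unipotent {p n : ℕ} [Fact p.Prime] [CharP K p] (hκ : Fintype.card κ = n)
    {G : Type*} [Group G] (ρ : G →* Matrix κ κ K) (hρ : Function.Injective ρ)
    (hconj : ∀ g g', IsConj (ρ g) (ρ g') → IsConj g g')
    (hex : ∀ u : GL κ K, ((u : Matrix κ κ K) - 1) ^ p = 0 → ∃ g, IsConj (u : Matrix κ κ K) (ρ g)) :
    Nat.card {C : ConjClasses G // ∃ g, ConjClasses.mk g = C ∧ orderOf g = p} =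
      (Finset.univ.filter (fun μ : Nat.Partition n => ∀ a ∈ μ.parts, a ≤ p)).card - 1 := by
  let e : {μ : Nat.Partition n // ∀ a ∈ μ.parts, a ≤ p} ≃
      {x // ∃ μ : Nat.Partition n, (∀ a ∈ μ.parts, a ≤ p) ∧ minSum μ.parts = x} :=
    Equiv.ofBijective (fun μ => ⟨_, μ.1, μ.2, rfl⟩)
      ⟨fun a b h => Subtype.ext (minSum_parts_injective (congrArg Subtype.val h)),
        fun ⟨_, μ, h, rfl⟩ => ⟨⟨μ, h⟩, rfl⟩⟩
  have := Finite.of_equiv _ e
  have hp : ∀ g, g ^ p = 1 ↔ (ρ g - 1) ^ p = 0 := fun g => by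
    rw [← pow_char_eq_one_iff, ← map_pow, map_eq_one_iff ρ hρ]
  rw [card_classes_orderOf Fact.out (fun g => kerSeq (ρ g))
    (fun x => ∃ μ : Nat.Partition n, (∀ a ∈ μ.parts, a ≤ p) ∧ minSum μ.parts = x),
    ← Nat.card_congr e, Nat.card_eq_fintype_card, Fintype.card_subtype]
  · intro g g' hg hg'
    rw [← isConj_iff_kerSeq ((hp g).1 hg) ((hp g').1 hg')]
    exact ⟨ρ.map_isConj, hconj g g'⟩
  · intro x
    constructor
    · rintro ⟨μ, hμ, rfl⟩
      obtain ⟨u, h1, h2⟩ := exists_kerSeq_eq (K := K) hκ μ hμ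
      obtain ⟨g, hg⟩ := hex u h1
      have h3 : (ρ g - 1) ^ p = 0 := by
        rw [← pow_char_eq_one_iff] at h1 ⊢
        have := hg.pow p
        rwa [h1, isConj_one_right] at this
      exact ⟨g, (hp g).2 h3, ((isConj_iff_kerSeq h1 h3).1 hg).symm.trans h2⟩
    · rintro ⟨g, hg, rfl⟩
      exact exists_partition_kerSeq hκ ((hp g).1 hg)

end Partitions

end Cfsg.Agent.Lib.GL.Jordan
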