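import Mathlib
import Cfsg.Agent.Lib.GL.Hilbert90

/-!
Lang's theorem for `GL` over an algebraically closed field.
-/

set_option autoImplicit false

open Matrix Polynomial

namespace Cfsg.Agent.Lib.GL.Lang

variable {K : Type*} [Field K] [IsAlgClosed K]

/-- The polynomials used to solve the fixed-point equation. -/
noncomputable def auxPoly (q : ℕ) (a : ℕ → K) : ℕ → K[X]
  | 0 => C (a 0) * X ^ q
  | (i + 1) => auxPoly q a i ^ q + C (a (i + 1)) * X ^ q

omit [IsAlgClosed K] in
theorem auxPoly_natDegree {q : ℕ} (hq : 2 ≤ q) (a : ℕ → K) (ha : a 0 ≠ 0) (i : ℕ) :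
    (auxPoly q a i).natDegree = q ^ (i + 1) := by
  induction i with
  | zero => simp [auxPoly, natDegree_C_mul_X_pow q _ ha]
  | succ i ih =>
    rw [auxPoly, natDegree_add_eq_left_of_natDegree_lt, natDegree_pow, ih, pow_succ' q (i + 1)]
    rw [natDegree_pow, ih]
    refine lt_of_le_of_lt (natDegree_C_mul_X_pow_le _ _) ?_
    have : 1 < q ^ (i + 1) := Nat.one_lt_pow (by omega) (by omega)
    nlinarith

omit [IsAlgClosed K] in
theorem X_sq_dvd_auxPoly {q : ℕ} (hq : 2 ≤ q) (a : ℕ → K) (i : ℕ) :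
    X ^ 2 ∣ auxPoly q a i := by
  have h : (X : K[X]) ^ 2 ∣ X ^ q := pow_dvd_pow _ hq
  induction i with
  | zero => exact Dvd.dvd.mul_left h _
  | succ i ih =>
    exact dvd_add (dvd_pow ih (by omega)) (Dvd.dvd.mul_left h _)

theorem exists_aux_root {q : ℕ} (hq : 2 ≤ q) (a : ℕ → K) (ha : a 0 ≠ 0) (i : ℕ) :
    ∃ y : K, y ≠ 0 ∧ (auxPoly q a i).eval y = y := by
  obtain ⟨R, hR⟩ := X_sq_dvd_auxPoly hq a i
  have hR0 : R ≠ 0 := by
    rintro rfl
    have := auxPoly_natDegree hq a ha i
    rw [hR, mul_zero, natDegree_zero] at this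
    exact (pow_pos (by omega : 0 < q) (i + 1)).ne this
  have hdeg : (X * R - 1 : K[X]).degree ≠ 0 := by
    have h1 : (X * R : K[X]).natDegree = R.natDegree + 1 := by
      rw [natDegree_X_mul hR0]
    have h2 : (X * R - 1 : K[X]).natDegree = R.natDegree + 1 := by
      rw [natDegree_sub_eq_left_of_natDegree_lt (by rw [h1]; simp), h1]
    intro h
    have := natDegree_eq_zero_iff_degree_le_zero.2 h.le
    omega
  obtain ⟨y, hy⟩ := IsAlgClosed.exists_root _ hdeg
  have hy' : y * R.eval y = 1 := by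
    simpa [sub_eq_zero] using hy
  refine ⟨y, by rintro rfl; simp at hy', ?_⟩
  rw [hR]
  simp only [eval_mul, eval_pow, eval_X]
  linear_combination y * hy'

variable {V : Type*} [AddCommGroup V] [Module K V] [FiniteDimensional K V]

theorem exists_fixed_ne_zero {q : ℕ} (hq : 2 ≤ q) (τ : V →+ V) (hinj : Function.Injective τ)
    (hτ : ∀ (c : K) (v : V), τ (c • v) = c ^ q • τ v) (w : V) (hw : w ≠ 0) :
    ∃ v : V, v ≠ 0 ∧ τ v = v := by
  classical
  have hex : ∃ k : ℕ, ¬ LinearIndependent K (fun i : Fin (k + 1) => τ^[i] w) := by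
    refine ⟨Module.finrank K V, fun h => ?_⟩
    have := h.fintype_card_le_finrank
    simp at this
  obtain ⟨s, hs⟩ : ∃ s, Nat.find hex = s + 1 := by
    refine Nat.exists_eq_succ_of_ne_zero fun h0 => ?_
    have := Nat.find_spec hex
    rw [h0] at this
    exact this ((linearIndependent_unique_iff (ι := Fin 1)).2 (by simpa using hw))
  have h1 := Nat.find_spec hex
  have h2 : LinearIndependent K (fun i : Fin (s + 1) => τ^[i] w) := by
    have := Nat.find_min hex (m := s) (by omega)
    exact not_not.1 this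
  rw [hs, linearIndependent_finSucc'] at h1
  have h3 : τ^[s + 1] w ∈ Submodule.span K (Set.range fun i : Fin (s + 1) => τ^[i] w) := by
    by_contra h
    exact h1 ⟨h2, h⟩
  obtain ⟨a', ha'⟩ := (Submodule.mem_span_range_iff_exists_fun _).1 h3
  let a : ℕ → K := fun i => if h : i < s + 1 then a' ⟨i, h⟩ else 0
  have ha : ∑ i ∈ Finset.range (s + 1), a i • τ^[i] w = τ^[s + 1] w := by
    rw [← ha', Finset.sum_range]
    refine Finset.sum_congr rfl fun i _ => ?_
    simp only [a, i.2, dif_pos]
  have hli : ∀ x : ℕ → K, ∑ i ∈ Finset.range (s + 1), x i • τ^[i] w = 0 → x s = 0 := by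
    intro x hx
    rw [Finset.sum_range] at hx
    exact Fintype.linearIndependent_iff.1 h2 (fun i => x i) hx (Fin.last s)
  have ha0 : a 0 ≠ 0 := by
    intro h0
    choose b hb using fun i => IsAlgClosed.exists_pow_nat_eq (a (i + 1)) (by omega : 0 < q)
    have h4 : τ (∑ i ∈ Finset.range s, b i • τ^[i] w) = τ (τ^[s] w) := by
      rw [← Function.iterate_succ_apply' τ s, ← ha, Finset.sum_range_succ', h0, zero_smul, add_zero,
        map_sum]
      refine Finset.sum_congr rfl fun i _ => ?_
      rw [hτ, hb, Function.iterate_succ_apply']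
    have h5 := hinj h4
    have := hli (fun i => if i = s then -1 else b i) (by
      rw [Finset.sum_range_succ, ← h5]
      simp only [if_true, neg_smul, one_smul]
      rw [add_neg_eq_zero]
      refine Finset.sum_congr rfl fun i hi => ?_
      rw [if_neg (Finset.mem_range.1 hi).ne])
    simp at this
  obtain ⟨y, hy0, hy⟩ := exists_aux_root hq a ha0 s
  refine ⟨∑ i ∈ Finset.range (s + 1), (auxPoly q a i).eval y • τ^[i] w, fun h => ?_, ?_⟩
  · exact hy0 (hy ▸ hli _ h)
  · rw [map_sum, Finset.sum_range_succ, hτ, ← Function.iterate_succ_apply' τ s, ← ha, hy,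
      Finset.sum_range_succ', Finset.sum_range_succ', smul_add, ← add_assoc, Finset.smul_sum,
      ← Finset.sum_add_distrib]
    congr 1
    · refine Finset.sum_congr rfl fun i _ => ?_
      rw [hτ, ← Function.iterate_succ_apply' τ i, auxPoly, smul_smul, ← add_smul]
      simp only [eval_add, eval_pow, eval_mul, eval_C, eval_X, mul_comm (y ^ q), Nat.succ_eq_add_one]
    · simp only [auxPoly, smul_smul, eval_pow, eval_mul, eval_C, eval_X, mul_comm (y ^ q)]

theorem span_fixed_eq_top {q : ℕ} (hq : 2 ≤ q) (τ : V →+ V) (hinj : Function.Injective τ)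
    (hτ : ∀ (c : K) (v : V), τ (c • v) = c ^ q • τ v) :
    Submodule.span K {v | τ v = v} = ⊤ := by
  set W := Submodule.span K {v | τ v = v} with hW
  have hW1 : ∀ w ∈ W, τ w ∈ W := by
    intro w hw
    induction hw using Submodule.span_induction with
    | mem x hx => rw [hx]; exact Submodule.subset_span hx
    | zero => simp
    | add x y _ _ hx hy => rw [map_add]; exact W.add_mem hx hy
    | smul c x _ hx => rw [hτ]; exact W.smul_mem _ hx
  have hW2 : ∀ w ∈ W, ∃ w' ∈ W, τ w' = w := by
    intro w hw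
    induction hw using Submodule.span_induction with
    | mem x hx => exact ⟨x, Submodule.subset_span hx, hx⟩
    | zero => exact ⟨0, W.zero_mem, map_zero _⟩
    | add x y _ _ hx hy =>
      obtain ⟨x', hx', rfl⟩ := hx
      obtain ⟨y', hy', rfl⟩ := hy
      exact ⟨x' + y', W.add_mem hx' hy', map_add _ _ _⟩
    | smul c x _ hx =>
      obtain ⟨x', hx', rfl⟩ := hx
      obtain ⟨d, rfl⟩ := IsAlgClosed.exists_pow_nat_eq c (by omega : 0 < q)
      exact ⟨d • x', W.smul_mem _ hx', hτ _ _⟩
  have hW3 : ∀ w ∈ W, ∀ c : K, ∃ w' ∈ W, τ w' - w' = c • w := by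
    intro w hw
    induction hw using Submodule.span_induction with
    | mem x hx =>
      intro c
      have hdeg : (X ^ q - X - C c : K[X]).degree ≠ 0 := by
        have h2 : (X ^ q - X - C c : K[X]).natDegree = q := by
          rw [natDegree_sub_C, natDegree_sub_eq_left_of_natDegree_lt (by simp; omega)]
          simp
        intro h
        have := natDegree_eq_zero_iff_degree_le_zero.2 h.le
        omega
      obtain ⟨d, hd⟩ := IsAlgClosed.exists_root _ hdeg
      refine ⟨d • x, W.smul_mem _ (Submodule.subset_span hx), ?_⟩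
      have hx' : τ x = x := hx
      rw [hτ, hx', ← sub_smul]
      congr 1
      simpa [sub_eq_zero] using hd
    | zero => intro c; exact ⟨0, W.zero_mem, by simp⟩
    | add x y _ _ hx hy =>
      intro c
      obtain ⟨x', hx', hx⟩ := hx c
      obtain ⟨y', hy', hy⟩ := hy c
      refine ⟨x' + y', W.add_mem hx' hy', ?_⟩
      rw [map_add, smul_add, ← hx, ← hy]; abel
    | smul c x _ hx =>
      intro d
      rw [smul_smul]
      exact hx _
  let τ' : (V ⧸ W) →+ (V ⧸ W) :=
    QuotientAddGroup.map W.toAddSubgroup W.toAddSubgroup τ (fun w hw => hW1 w hw)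
  have hτ'mk : ∀ v : V, τ' (W.mkQ v) = W.mkQ (τ v) := fun v => rfl
  by_contra hne
  obtain ⟨w, hw⟩ : ∃ w : V, w ∉ W := by
    by_contra h
    push Not at h
    exact hne (eq_top_iff.2 fun v _ => h v)
  obtain ⟨v, hv0, hv⟩ := exists_fixed_ne_zero (K := K) hq τ' (by
      rw [injective_iff_map_eq_zero]
      intro x hx
      obtain ⟨x, rfl⟩ := W.mkQ_surjective x
      rw [hτ'mk] at hx
      obtain ⟨w', hw', h⟩ := hW2 _ ((Submodule.Quotient.mk_eq_zero W).1 hx)
      rw [← hinj h]
      exact (Submodule.Quotient.mk_eq_zero W).2 hw') (by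
      intro c x
      obtain ⟨x, rfl⟩ := W.mkQ_surjective x
      rw [← map_smul, hτ'mk, hτ'mk, hτ, map_smul]) (W.mkQ w)
      (fun h => hw ((Submodule.Quotient.mk_eq_zero W).1 h))
  obtain ⟨v, rfl⟩ := W.mkQ_surjective v
  rw [hτ'mk] at hv
  have h1 : τ v - v ∈ W := (Submodule.Quotient.eq W).1 hv
  obtain ⟨w', hw', h2⟩ := hW3 _ h1 (-1)
  have h3 : v + w' ∈ W := Submodule.subset_span (by
    change τ (v + w') = v + w'
    rw [map_add]
    have : τ w' = w' + (-1 : K) • (τ v - v) := by rw [← h2]; abel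
    rw [this, neg_one_smul]; abel)
  apply hv0
  have : v ∈ W := by simpa using W.sub_mem h3 hw'
  exact (Submodule.Quotient.mk_eq_zero W).2 this

/-- **Lang's theorem for `GL`** over an algebraically closed field, for a ring endomorphism
`σ : x ↦ x ^ q`. -/
theorem exists_eq_mul_inv {ι : Type*} [Fintype ι] [DecidableEq ι] {q : ℕ} (hq : 2 ≤ q)
    (σ : K →+* K) (hσ : ∀ x, σ x = x ^ q) (g : GL ι K) :
    ∃ x : GL ι K, g = x * (Matrix.GeneralLinearGroup.map σ x)⁻¹ := by
  have h := span_fixed_eq_top (K := K) hq (H90.semi (g : Matrix ι ι K) σ) (by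
    rw [injective_iff_map_eq_zero]
    intro v hv
    rw [H90.semi_apply] at hv
    have := congrArg (fun u => ((g⁻¹ : GL ι K) : Matrix ι ι K) *ᵥ u) hv
    simp only [mulVec_mulVec, Units.inv_mul, one_mulVec, mulVec_zero] at this
    ext i
    simpa using congrFun this i) (by
    intro c v
    rw [H90.semi_smul, hσ])
  obtain ⟨b, hb⟩ := H90.exists_basis_mem_of_span_eq_top (ι := ι) (by simp) _ h
  refine ⟨H90.glOfBasis b, ?_⟩
  rw [eq_mul_inv_iff_mul_eq]
  exact Units.ext (H90.eq_mul_map_of_fixed _ _ b hb)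

end Cfsg.Agent.Lib.GL.Lang
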