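import Mathlib
import Cfsg.Agent.Lib.GL.Similar
import Cfsg.Agent.Lib.GL.Lang
import Cfsg.Agent.Lib.GL.FixedField

/-!
Eigenvalue multiplicities over an extension field classify semisimple matrices up to similarity.
-/

set_option autoImplicit false

open Module Matrix Polynomial

namespace Cfsg.Agent.Lib.GL.Mult

open Cfsg.Agent.Lib.GL.Sim

variable {F L : Type*} [Field F] [Field L] {ι : Type*} [Fintype ι] [DecidableEq ι]

theorem rank_map_eq (φ : F →+* L) (A : Matrix ι ι F) : (A.map φ).rank = A.rank := by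
  classical
  obtain ⟨l, l', D, rfl⟩ := Matrix.Pivot.exists_list_transvec_mul_diagonal_mul_list_transvec A
  have h1 := TransvectionStruct.det_toMatrix_prod l
  have h2 := TransvectionStruct.det_toMatrix_prod l'
  have h3 : ∀ M : Matrix ι ι F, M.det = 1 → (M.map φ).det ≠ 0 := fun M hM => by
    rw [← RingHom.mapMatrix_apply, ← RingHom.map_det, hM, map_one]; exact one_ne_zero
  rw [Matrix.map_mul, Matrix.map_mul, rank_mul_eq_left_of_det_ne_zero _ _ (h3 _ h2),
    rank_mul_eq_right_of_det_ne_zero _ _ (h3 _ h1),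
    rank_mul_eq_left_of_det_ne_zero _ _ (h2 ▸ one_ne_zero),
    rank_mul_eq_right_of_det_ne_zero _ _ (h1 ▸ one_ne_zero), diagonal_map (map_zero φ),
    rank_diagonal, rank_diagonal]
  simp

theorem aeval_map_eq (φ : F →+* L) (A : Matrix ι ι F) (f : F[X]) :
    aeval (A.map φ) (f.map φ) = (aeval A f).map φ := by
  refine (map_aeval_eq_aeval_map (φ := φ) (ψ := φ.mapMatrix) ?_ f A).symm
  ext c i j
  by_cases h : i = j <;> simp [algebraMap_matrix_apply, h]

theorem kdM_map (φ : F →+* L) (A : Matrix ι ι F) (f : F[X]) :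
    kdM (A.map φ) (f.map φ) = kdM A f := by
  have h1 := kdM_add_rank (A.map φ) (f.map φ)
  have h2 := kdM_add_rank A f
  rw [aeval_map_eq, rank_map_eq] at h1
  omega

theorem isConj_map_iff (φ : F →+* L) {A B : Matrix ι ι F} :
    IsConj (A.map φ) (B.map φ) ↔ IsConj A B :=
  ⟨fun h => isConj_iff_kdM.2 fun f => by rw [← kdM_map φ, ← kdM_map φ B, isConj_iff_kdM.1 h],
    fun h => φ.mapMatrix.toMonoidHom.map_isConj h⟩

/-- The geometric multiplicity of `z` as an eigenvalue of `A` over the extension field. -/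
noncomputable def mult (φ : F →+* L) (A : Matrix ι ι F) (z : L) : ℕ := kdM (A.map φ) (X - C z)

theorem aeval_X_sub_C' (A : Matrix ι ι L) (z : L) : aeval A (X - C z) = A - z • 1 := by
  simp [Algebra.algebraMap_eq_smul_one]

theorem mult_add_rank (φ : F →+* L) (A : Matrix ι ι F) (z : L) :
    mult φ A z + (A.map φ - z • 1).rank = Fintype.card ι := by
  rw [← aeval_X_sub_C', mult, kdM_add_rank]

theorem mult_of_isConj (φ : F →+* L) {A B : Matrix ι ι F} (h : IsConj A B) (z : L) :
    mult φ A z = mult φ B z := isConj_iff_kdM.1 ((isConj_map_iff φ).2 h) _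

theorem mult_of_kdM (φ : F →+* L) {κ : Type*} [Fintype κ] [DecidableEq κ] {A : Matrix ι ι F}
    {B : Matrix κ κ F} (h : ∀ f, kdM A f = kdM B f) (z : L) : mult φ A z = mult φ B z := by
  have e : ι ≃ κ := Fintype.equivOfCardEq (by rw [← kdM_zero A, h, kdM_zero])
  have h1 : IsConj (reindex e e A) B := isConj_iff_kdM.2 fun f => by rw [kdM_reindex, h]
  rw [← mult_of_isConj φ h1, mult, mult, ← kdM_reindex e]
  rfl

theorem kdM_eq_of_mult [IsAlgClosed L] (φ : F →+* L) {κ : Type*} [Fintype κ] [DecidableEq κ]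
    {A : Matrix ι ι F} {B : Matrix κ κ F} {P : F[X]} (hP : P.Separable)
    (hA : aeval A P = 0) (hB : aeval B P = 0)
    (h : ∀ z, (P.map φ).eval z = 0 → mult φ A z = mult φ B z) (f : F[X]) : kdM A f = kdM B f := by
  rw [← kdM_map φ, ← kdM_map φ B]
  refine kdE_eq_of_squarefree (hP.map (f := φ)).squarefree ?_ ?_ ?_ _
  · rw [aeval_toLin'_eq_zero, aeval_map_eq, hA]; simp
  · rw [aeval_toLin'_eq_zero, aeval_map_eq, hB]; simp
  · intro p hp hp' hd
    have h1 := IsAlgClosed.degree_eq_one_of_irreducible L hp'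
    have h2 : p = X - C (-p.coeff 0) := by
      rw [hp.eq_X_add_C (natDegree_eq_of_degree_eq_some h1)]; simp
    rw [h2] at hd ⊢
    exact h _ (dvd_iff_isRoot.1 hd)

theorem isConj_iff_mult [IsAlgClosed L] (φ : F →+* L) {A B : Matrix ι ι F} {P : F[X]}
    (hP : P.Separable) (hA : aeval A P = 0) (hB : aeval B P = 0) :
    IsConj A B ↔ ∀ z, (P.map φ).eval z = 0 → mult φ A z = mult φ B z :=
  ⟨fun h z _ => mult_of_isConj φ h z, fun h => isConj_iff_kdM.2 (kdM_eq_of_mult φ hP hA hB h)⟩

theorem sum_mult_eq (φ : F →+* L) (A : Matrix ι ι F) {J : Type*} [Fintype J] {e : J → L}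
    (he : Function.Injective e) :
    ∑ j, mult φ A (e j) = kdM (A.map φ) (∏ j, (X - C (e j))) :=
  (kdE_prod_of_pairwise_isCoprime _ _ _ fun _ _ _ _ hij =>
    isCoprime_X_sub_C_of_isUnit_sub (sub_ne_zero.2 (he.ne hij)).isUnit).symm

theorem sum_mult_eq_card_iff (φ : F →+* L) (A : Matrix ι ι F) {J : Type*} [Fintype J] {e : J → L}
    (he : Function.Injective e) {P : F[X]} (hP : P.map φ = ∏ j, (X - C (e j))) :
    ∑ j, mult φ A (e j) = Fintype.card ι ↔ aeval A P = 0 := by
  rw [sum_mult_eq φ A he, ← hP, kdM_map, aeval_eq_zero_iff_kdM]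

theorem mult_map {F' L' : Type*} [Field F'] [Field L'] (φ : F →+* L) (φ' : F' →+* L')
    (σ : F →+* F') (τ : L →+* L') (h : ∀ a, τ (φ a) = φ' (σ a)) (A : Matrix ι ι F) (z : L) :
    mult φ' (A.map σ) (τ z) = mult φ A z := by
  rw [mult, mult, ← kdM_map τ]
  congr 1
  · ext i j; simp [h]
  · simp

theorem mult_frob (φ : F →+* L) (τ : L →+* L) (h : ∀ a, τ (φ a) = φ a) (A : Matrix ι ι F) (z : L) :
    mult φ A (τ z) = mult φ A z := mult_map φ φ (RingHom.id F) τ h A z

theorem mult_transpose (φ : F →+* L) (A : Matrix ι ι F) (z : L) : mult φ Aᵀ z = mult φ A z :=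
  mult_of_isConj φ (isConj_transpose A).symm z

theorem mult_smul (φ : F →+* L) (A : Matrix ι ι F) {c : F} (hc : c ≠ 0) (z : L) :
    mult φ (c • A) (φ c * z) = mult φ A z := by
  have h1 := mult_add_rank φ (c • A) (φ c * z)
  have h2 := mult_add_rank φ A z
  have h3 : (c • A).map φ - (φ c * z) • 1 = (φ c • 1) * (A.map φ - z • 1) := by
    ext i j; simp [mul_sub, mul_left_comm, mul_assoc]
  rw [h3, rank_mul_eq_right_of_det_ne_zero _ _ (by simp [hc])] at h1
  omega

theorem mult_inv (φ : F →+* L) {A B : Matrix ι ι F} (h : A * B = 1) {z : L} (hz : z ≠ 0) :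
    mult φ B z⁻¹ = mult φ A z := by
  have h1 := mult_add_rank φ B z⁻¹
  have h2 := mult_add_rank φ A z
  have h0 : B.map φ * A.map φ = 1 := by
    rw [← Matrix.map_mul, mul_eq_one_comm.1 h]; simp
  have h3 : B.map φ - z⁻¹ • 1 = (-z⁻¹ • B.map φ) * (A.map φ - z • 1) := by
    rw [smul_mul_assoc, mul_sub, h0, mul_smul_comm, mul_one, smul_sub, smul_smul]
    simp [hz, sub_eq_add_neg, add_comm]
  rw [h3, rank_mul_eq_right_of_det_ne_zero _ _ (by
    have := congrArg det h0
    rw [det_mul, det_one] at this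
    rw [det_smul]
    simp [hz, left_ne_zero_of_mul_eq_one this])] at h1
  omega

theorem kdM_diagonal [DecidableEq L] (d : ι → L) (z : L) :
    kdM (diagonal d) (X - C z) = Fintype.card {i // d i = z} := by
  have h1 := kdM_add_rank (diagonal d) (X - C z)
  have h2 : diagonal d - z • 1 = diagonal fun i => d i - z := by
    ext i j; by_cases h : i = j <;> simp [h]
  rw [aeval_X_sub_C', h2, rank_diagonal] at h1
  simp only [ne_eq, sub_eq_zero, Fintype.card_subtype_compl] at h1
  have := Fintype.card_subtype_le fun i => d i = z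
  omega

theorem mult_one (φ : F →+* L) [DecidableEq L] (z : L) :
    mult φ (1 : Matrix ι ι F) z = if z = 1 then Fintype.card ι else 0 := by
  rw [mult, Matrix.map_one _ (map_zero _) (map_one _), ← diagonal_one, kdM_diagonal]
  split_ifs with h
  · simp [h]
  · simp [Ne.symm h]

/-- A field embedding into an algebraically closed field has as image the fixed points of the
Frobenius map. -/
theorem mem_range_iff_pow [Fintype F] (φ : F →+* L) (z : L) :
    z ∈ φ.range ↔ z ^ Fintype.card F = z := by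
  classical
  constructor
  · rintro ⟨a, rfl⟩
    rw [← map_pow, FiniteField.pow_card]
  · intro hz
    have h1 : (X ^ Fintype.card F - X : F[X]) = ∏ a : F, (X - C a) := by
      have hm : (X ^ Fintype.card F - X : F[X]).Monic :=
        monic_X_pow_sub (by simpa using (Fintype.one_lt_card : 1 < Fintype.card F))
      have := (prod_multiset_X_sub_C_of_monic_of_roots_card_eq hm (by
        rw [FiniteField.roots_X_pow_card_sub_X, FiniteField.X_pow_card_sub_X_natDegree_eq F
          Fintype.one_lt_card]; rfl)).symm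
      rw [FiniteField.roots_X_pow_card_sub_X] at this
      exact this
    have h2 := congrArg (fun f : F[X] => f.eval₂ φ z) h1
    simp only [eval₂_sub, eval₂_X_pow, eval₂_X, hz, sub_self, eval₂_finsetProd, eval₂_C] at h2
    obtain ⟨a, -, ha⟩ := Finset.prod_eq_zero_iff.1 h2.symm
    exact ⟨a, (sub_eq_zero.1 ha).symm⟩

theorem exists_frob [Fintype F] (φ : F →+* L) :
    ∃ τ : L →+* L, ∀ z, τ z = z ^ Fintype.card F := by
  obtain ⟨p, hp⟩ := CharP.exists F
  obtain ⟨k, hp', hk⟩ := FiniteField.card F p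
  have : Fact p.Prime := ⟨hp'⟩
  have : CharP L p := (φ.charP_iff_charP p).1 hp
  exact ⟨iterateFrobenius L p k, fun z => by rw [iterateFrobenius_def, hk]⟩

/-- **Existence of semisimple matrices with prescribed eigenvalues** (via Lang's theorem). -/
theorem exists_matrix_mult [IsAlgClosed L] [Fintype F] (φ : F →+* L) {J : Type*} [Fintype J]
    {e : J → L} (he : Function.Injective e) (m : J → ℕ) (hm : ∑ j, m j = Fintype.card ι)
    (hq : ∀ j, ∃ j', e j' = e j ^ Fintype.card F ∧ m j' = m j) :
    ∃ A : Matrix ι ι F, ∀ j, mult φ A (e j) = m j := by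
  classical
  obtain ⟨τ, hτ⟩ := exists_frob φ
  choose π hπ hπ' using hq
  have hπi : Function.Injective π := fun a b hab => he (τ.injective (by rw [hτ, hτ, ← hπ, hab, hπ]))
  have hπs := Finite.surjective_of_injective hπi
  let ε : ι ≃ Σ j, Fin (m j) := Fintype.equivOfCardEq (by simp [hm])
  have hcard : ∀ j, Fintype.card {i // (ε i).1 = j} = m j := by
    intro j
    rw [Fintype.card_congr ((ε.subtypeEquiv (q := fun x => x.1 = j) fun _ => Iff.rfl).trans
      (Equiv.sigmaSubtype j))]
    simp
  let D : Matrix ι ι L := diagonal fun i => e (ε i).1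
  have hD : ∀ j, kdM D (X - C (e j)) = m j := fun j => by
    rw [kdM_diagonal, ← hcard]
    simp [he.eq_iff]
  have hD' : D.map τ = diagonal fun i => e (π (ε i).1) := by
    rw [diagonal_map (map_zero τ)]; simp [hτ, hπ]
  have hsep : (∏ j, (X - C (e j)) : L[X]).Separable := separable_prod_X_sub_C_iff.2 he
  have hconj : IsConj (D.map τ) D := by
    have h0 : ∀ d : ι → J, aeval (diagonal fun i => e (d i)) (∏ j, (X - C (e j)) : L[X]) = 0 := by
      intro d
      have : (diagonal fun i => e (d i)) = diagonalAlgHom L (fun i => e (d i)) := rfl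
      rw [this, aeval_algHom_apply]
      have : aeval (fun i => e (d i)) (∏ j, (X - C (e j)) : L[X]) = 0 := by
        ext i
        refine (aeval_algHom_apply (Pi.evalAlgHom L (fun _ => L) i) _ _).symm.trans ?_
        simp only [map_prod, map_sub, aeval_X, aeval_C, Pi.evalAlgHom_apply]
        exact Finset.prod_eq_zero (Finset.mem_univ (d i)) (by simp)
      rw [this, map_zero]
    refine (isConj_iff_mult (RingHom.id L) hsep (hD' ▸ h0 _) (h0 _)).2 fun z hz => ?_
    rw [Polynomial.map_id, eval_prod, Finset.prod_eq_zero_iff] at hz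
    obtain ⟨j, -, hj⟩ := hz
    obtain ⟨j, rfl⟩ := hπs j
    have hj' : z = e (π j) := by simpa [sub_eq_zero] using hj
    have h1 := kdM_map τ D (X - C (e j))
    simp only [Polynomial.map_sub, map_X, map_C, hτ, ← hπ] at h1
    rw [hj', mult, mult]
    simp only [RingHom.coe_id, Matrix.map_id']
    exact h1.trans ((hD j).trans ((hπ' j).symm.trans (hD _).symm))
  obtain ⟨w, hw⟩ := hconj
  obtain ⟨x, hx⟩ := Lang.exists_eq_mul_inv Fintype.one_lt_card τ hτ w
  have hx' : (w : Matrix ι ι L) * (x : Matrix ι ι L).map τ = x := by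
    have : w * Matrix.GeneralLinearGroup.map τ x = x := by rw [hx, inv_mul_cancel_right]
    exact congrArg Units.val this
  let B : Matrix ι ι L := (x⁻¹ : GL ι L) * D * x
  have hB : (x : Matrix ι ι L) * B = D * x := by simp [B, ← mul_assoc]
  have hBτ : B.map τ = B := by
    have h1 := congrArg (fun M : Matrix ι ι L => (w : Matrix ι ι L) * M.map τ) hB
    simp only [Matrix.map_mul] at h1
    rw [← mul_assoc, ← mul_assoc, hx', hw.eq, mul_assoc, hx', ← hB] at h1
    exact x.isUnit.mul_left_cancel h1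
  choose A hA using fun i j => (mem_range_iff_pow φ (B i j)).2
    (by rw [← hτ]; exact congrFun (congrFun hBτ i) j)
  refine ⟨Matrix.of A, fun j => ?_⟩
  have : (Matrix.of A).map φ = B := by ext i j; exact hA i j
  rw [mult, this, kdM_eq_of_mul_eq x hB, hD]

end Cfsg.Agent.Lib.GL.Mult
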