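import Mathlib
import Cfsg.Agent.Lib.GL.Mult
import Cfsg.Agent.Lib.GL.ClassCount

/-!
Matrices whose `r`-th power is a scalar: multiplicity vectors indexed by `ZMod r`.
-/

set_option autoImplicit false

open Module Matrix Polynomial

namespace Cfsg.Agent.Lib.GL.Mult

open Cfsg.Agent.Lib.GL.Sim

variable {F L : Type*} [Field F] [Field L] {ι : Type*} [Fintype ι] [DecidableEq ι]
variable {r : ℕ} [NeZero r] {ζ : L}

/-- `ζ ^ j` for `j : ZMod r`. -/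
def rt (ζ : L) (j : ZMod r) : L := ζ ^ j.val

theorem rt_natCast (hζ : IsPrimitiveRoot ζ r) (k : ℕ) : rt ζ (k : ZMod r) = ζ ^ k := by
  rw [rt, ZMod.val_natCast, hζ.eq_orderOf, pow_mod_orderOf]

omit [NeZero r] in
theorem rt_zero : rt ζ (0 : ZMod r) = 1 := by simp [rt]

theorem rt_add (hζ : IsPrimitiveRoot ζ r) (i j : ZMod r) : rt ζ (i + j) = rt ζ i * rt ζ j := by
  rw [← ZMod.natCast_zmod_val i, ← ZMod.natCast_zmod_val j, ← Nat.cast_add, rt_natCast hζ,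
    rt_natCast hζ, rt_natCast hζ, pow_add]

theorem rt_natCast_mul (hζ : IsPrimitiveRoot ζ r) (k : ℕ) (j : ZMod r) :
    rt ζ ((k : ZMod r) * j) = rt ζ j ^ k := by
  rw [← ZMod.natCast_zmod_val j, ← Nat.cast_mul, rt_natCast hζ, rt_natCast hζ, mul_comm, pow_mul]

theorem rt_ne_zero (hζ : IsPrimitiveRoot ζ r) (j : ZMod r) : rt ζ j ≠ 0 :=
  pow_ne_zero _ (hζ.ne_zero (NeZero.ne r))

theorem rt_neg (hζ : IsPrimitiveRoot ζ r) (j : ZMod r) : rt ζ (-j) = (rt ζ j)⁻¹ :=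
  eq_inv_of_mul_eq_one_left (by rw [← rt_add hζ, neg_add_cancel, rt_zero])

theorem rt_pow (hζ : IsPrimitiveRoot ζ r) (j : ZMod r) : rt ζ j ^ r = 1 := by
  rw [← rt_natCast_mul hζ]; simp [rt_zero]

theorem rt_injective (hζ : IsPrimitiveRoot ζ r) : Function.Injective (rt ζ : ZMod r → L) :=
  fun i j h => ZMod.val_injective r (hζ.pow_inj (ZMod.val_lt i) (ZMod.val_lt j) h)

theorem exists_rt_eq (hζ : IsPrimitiveRoot ζ r) {z : L} (hz : z ^ r = 1) :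
    ∃ j : ZMod r, rt ζ j = z := by
  obtain ⟨i, -, hi⟩ := hζ.eq_pow_of_pow_eq_one hz
  exact ⟨i, by rw [rt_natCast hζ, hi]⟩

theorem mul_rt_injective (hζ : IsPrimitiveRoot ζ r) {μ : L} (hμ : μ ≠ 0) :
    Function.Injective (fun j : ZMod r => μ * rt ζ j) :=
  fun _ _ h => rt_injective hζ (mul_left_cancel₀ hμ h)

theorem exists_mul_rt_eq (hζ : IsPrimitiveRoot ζ r) {μ z : L} (hμ : μ ≠ 0) (hz : z ^ r = μ ^ r) :
    ∃ j : ZMod r, μ * rt ζ j = z := by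
  obtain ⟨j, hj⟩ := exists_rt_eq hζ (z := z / μ) (by rw [div_pow, hz, div_self (pow_ne_zero _ hμ)])
  exact ⟨j, by rw [hj, mul_div_cancel₀ _ hμ]⟩

theorem prod_X_sub_C_rt (hζ : IsPrimitiveRoot ζ r) (μ : L) :
    ∏ j : ZMod r, (X - C (μ * rt ζ j)) = X ^ r - C (μ ^ r) := by
  rw [X_pow_sub_C_eq_prod hζ (Nat.pos_of_neZero r) rfl, ← Fin.prod_univ_eq_prod_range
    (fun i => X - C (ζ ^ i * μ))]
  obtain ⟨k, rfl⟩ := Nat.exists_eq_succ_of_ne_zero (NeZero.ne r)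
  exact Finset.prod_congr rfl fun j _ => by rw [mul_comm]; rfl

theorem exists_primitiveRoot [IsAlgClosed L] (hr : (r : L) ≠ 0) : ∃ ζ : L, IsPrimitiveRoot ζ r := by
  have : NeZero (r : L) := ⟨hr⟩
  exact HasEnoughRootsOfUnity.exists_primitiveRoot L r

/-- The multiplicities of the eigenvalues `μ * ζ ^ j`. -/
noncomputable def mv (φ : F →+* L) (ζ μ : L) (r : ℕ) (A : Matrix ι ι F) (j : ZMod r) : ℕ :=
  mult φ A (μ * rt ζ j)

omit [NeZero r] in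
theorem aeval_X_pow_sub_C_eq_zero (A : Matrix ι ι F) (c : F) :
    aeval A (X ^ r - C c) = 0 ↔ A ^ r = c • 1 := by
  simp [sub_eq_zero, Algebra.algebraMap_eq_smul_one]

theorem sum_mv_iff (φ : F →+* L) (hζ : IsPrimitiveRoot ζ r) {μ : L} (hμ : μ ≠ 0) {c : F}
    (hc : μ ^ r = φ c) (A : Matrix ι ι F) :
    ∑ j, mv φ ζ μ r A j = Fintype.card ι ↔ A ^ r = c • 1 := by
  rw [← aeval_X_pow_sub_C_eq_zero]
  exact sum_mult_eq_card_iff φ A (mul_rt_injective hζ hμ) (by rw [prod_X_sub_C_rt hζ]; simp [hc])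

theorem kdM_eq_of_mv [IsAlgClosed L] (φ : F →+* L) (hζ : IsPrimitiveRoot ζ r) {μ : L} (hμ : μ ≠ 0)
    {c : F} (hc : μ ^ r = φ c) {κ : Type*} [Fintype κ] [DecidableEq κ]
    {A : Matrix ι ι F} {B : Matrix κ κ F} (hA : A ^ r = c • 1) (hB : B ^ r = c • 1)
    (h : mv φ ζ μ r A = mv φ ζ μ r B) (f : F[X]) : kdM A f = kdM B f := by
  have hr : (r : F) ≠ 0 := by
    have := (hζ.neZero' (R := L)).ne
    intro h0
    exact this (by rw [← map_natCast φ, h0, map_zero])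
  have hc0 : c ≠ 0 := by rintro rfl; exact pow_ne_zero r hμ (by rw [hc, map_zero])
  refine kdM_eq_of_mult φ (separable_X_pow_sub_C c hr hc0) ((aeval_X_pow_sub_C_eq_zero _ _).2 hA)
    ((aeval_X_pow_sub_C_eq_zero _ _).2 hB) (fun z hz => ?_) f
  obtain ⟨j, rfl⟩ := exists_mul_rt_eq hζ hμ (z := z) (by simpa [hc, sub_eq_zero] using hz)
  exact congrFun h j

theorem isConj_iff_mv [IsAlgClosed L] (φ : F →+* L) (hζ : IsPrimitiveRoot ζ r) {μ : L} (hμ : μ ≠ 0)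
    {c : F} (hc : μ ^ r = φ c) {A B : Matrix ι ι F} (hA : A ^ r = c • 1) (hB : B ^ r = c • 1) :
    IsConj A B ↔ mv φ ζ μ r A = mv φ ζ μ r B :=
  ⟨fun h => funext fun _ => mult_of_isConj φ h _,
    fun h => isConj_iff_kdM.2 (kdM_eq_of_mv φ hζ hμ hc hA hB h)⟩

theorem isUnit_of_pow_eq_smul {A : Matrix ι ι F} {c : F} (hc : c ≠ 0) (hA : A ^ r = c • 1) :
    IsUnit A := by
  rw [← isUnit_pow_iff (NeZero.ne r), hA, ← Algebra.algebraMap_eq_smul_one]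
  exact (Ne.isUnit hc).map _

theorem mv_one_frob [Fintype F] (φ : F →+* L) (hζ : IsPrimitiveRoot ζ r) (A : Matrix ι ι F)
    (j : ZMod r) : mv φ ζ 1 r A (Fintype.card F * j) = mv φ ζ 1 r A j := by
  obtain ⟨τ, hτ⟩ := exists_frob φ
  rw [mv, mv, one_mul, one_mul, rt_natCast_mul hζ, ← hτ]
  exact mult_frob φ τ (fun a => by rw [hτ, ← map_pow, FiniteField.pow_card]) A _

theorem mv_one_inv (φ : F →+* L) (hζ : IsPrimitiveRoot ζ r) {A B : Matrix ι ι F} (h : A * B = 1)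
    (j : ZMod r) : mv φ ζ 1 r B (-j) = mv φ ζ 1 r A j := by
  rw [mv, mv, one_mul, one_mul, rt_neg hζ, mult_inv φ h (rt_ne_zero hζ j)]

theorem exists_mv_one [IsAlgClosed L] [Fintype F] (φ : F →+* L) (hζ : IsPrimitiveRoot ζ r)
    (m : ZMod r → ℕ) (hm : ∑ j, m j = Fintype.card ι) (hq : ∀ j, m (Fintype.card F * j) = m j) :
    ∃ A : GL ι F, A ^ r = 1 ∧ mv φ ζ 1 r (A : Matrix ι ι F) = m := by
  obtain ⟨A, hA⟩ := exists_matrix_mult (ι := ι) φ (mul_rt_injective hζ one_ne_zero) m hm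
    fun j => ⟨Fintype.card F * j, by simp [rt_natCast_mul hζ], hq j⟩
  have h1 : mv φ ζ 1 r A = m := funext hA
  have h2 : A ^ r = (1 : F) • 1 := (sum_mv_iff φ hζ one_ne_zero (by simp) A).1 (h1 ▸ hm)
  obtain ⟨u, rfl⟩ := isUnit_of_pow_eq_smul one_ne_zero h2
  exact ⟨u, Units.ext (by simpa using h2), h1⟩

theorem isConj_iff_mv_one [IsAlgClosed L] (φ : F →+* L) (hζ : IsPrimitiveRoot ζ r)
    {A B : Matrix ι ι F} (hA : A ^ r = 1) (hB : B ^ r = 1) :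
    IsConj A B ↔ mv φ ζ 1 r A = mv φ ζ 1 r B :=
  isConj_iff_mv φ hζ one_ne_zero (c := 1) (by simp) (by simpa using hA) (by simpa using hB)

theorem sum_mv_one (φ : F →+* L) (hζ : IsPrimitiveRoot ζ r) {A : Matrix ι ι F} (hA : A ^ r = 1) :
    ∑ j, mv φ ζ 1 r A j = Fintype.card ι :=
  (sum_mv_iff φ hζ one_ne_zero (c := 1) (by simp) A).2 (by simpa using hA)

omit [NeZero r] in
theorem natCast_ne_zero_of_prime_ne {p : ℕ} [Fact p.Prime] [CharP F p] (hr : r.Prime) (hrp : r ≠ p) :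
    (r : F) ≠ 0 := by
  rw [Ne, CharP.cast_eq_zero_iff F p, Nat.prime_dvd_prime_iff_eq Fact.out hr]
  exact hrp.symm

omit [NeZero r] in
theorem card_ne_zero_zmod [Fintype F] (hr : r.Prime) (h : (r : F) ≠ 0) :
    ((Fintype.card F : ℕ) : ZMod r) ≠ 0 := by
  obtain ⟨p, hp⟩ := CharP.exists F
  obtain ⟨k, hp', hk⟩ := FiniteField.card F p
  rw [Ne, ZMod.natCast_eq_zero_iff, hk]
  intro hd
  have := (Nat.prime_dvd_prime_iff_eq hr hp').1 (hr.dvd_of_dvd_pow hd)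
  exact h (by rw [this]; exact CharP.cast_eq_zero F p)

end Cfsg.Agent.Lib.GL.Mult
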