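import Mathlib
import Cfsg.Agent.Lib.GL.AltConj
import Cfsg.Agent.Lib.GL.HermConj
import Cfsg.Agent.Lib.GL.MultRoot

/-!
Endomorphisms preserving some non-degenerate alternating form; class counts of semisimple elements
of prime order in `Sp` and `GU`.
-/

set_option autoImplicit false

open Module Matrix Polynomial

namespace Cfsg.Agent.Lib.GL.SpReal

open Cfsg.Agent.Lib.GL.Alt Cfsg.Agent.Lib.GL.RingNorm Cfsg.Agent.Lib.GL.Isom
  Cfsg.Agent.Lib.GL.Sim Cfsg.Agent.Lib.Forms Cfsg.Agent.Lib.GL.AltConj Cfsg.Agent.Lib.GL.Mult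
  Cfsg.Agent.Lib.GL.ClassCount Cfsg.Agent.Lib.GL.Herm Cfsg.Agent.Lib.GL.HermConj

variable {F : Type*} [Field F] {V : Type*} [AddCommGroup V] [Module F V]
  {W : Type*} [AddCommGroup W] [Module F W] {ι : Type*} [Fintype ι] [DecidableEq ι]

/-- `T` preserves a non-degenerate alternating form. -/
def IsSp (T : Module.End F V) : Prop :=
  ∃ B : LinearMap.BilinForm F V, B.IsAlt ∧ B.Nondegenerate ∧ ∀ u v, B (T u) (T v) = B u v

theorem IsSp.prodMap {T : Module.End F V} {S : Module.End F W} (hT : IsSp T) (hS : IsSp S) :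
    IsSp (T.prodMap S) := by
  obtain ⟨B, h1, h2, h3⟩ := hT
  obtain ⟨B', h1', h2', h3'⟩ := hS
  have ha : (B.compl₁₂ (LinearMap.fst F V W) (LinearMap.fst F V W) +
      B'.compl₁₂ (LinearMap.snd F V W) (LinearMap.snd F V W) : LinearMap.BilinForm F (V × W)).IsAlt :=
    fun v => by simp [h1 v.1, h1' v.2]
  refine ⟨_, ha, nondegenerate_of_isAlt ha fun v hv => Prod.ext (h2.2 _ fun u => ?_)
    (h2'.2 _ fun u => ?_), fun u v => by simp [h3, h3']⟩
  · simpa using hv (u, 0)
  · simpa using hv (0, u)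

theorem IsSp.congr {T : Module.End F V} {S : Module.End F W} (hT : IsSp T) (e : V ≃ₗ[F] W)
    (he : ∀ v, e (T v) = S (e v)) : IsSp S := by
  obtain ⟨B, h1, h2, h3⟩ := hT
  have ha : (B.compl₁₂ e.symm.toLinearMap e.symm.toLinearMap : LinearMap.BilinForm F W).IsAlt :=
    fun v => h1 _
  have he' : ∀ w, e.symm (S w) = T (e.symm w) := fun w => by
    rw [LinearEquiv.symm_apply_eq, he, e.apply_symm_apply]
  refine ⟨_, ha, nondegenerate_of_isAlt ha fun v hv => ?_, fun u v => by simp [he', h3]⟩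
  have := h2.2 (e.symm v) fun u => by simpa using hv (e u)
  simpa using this

theorem IsSp.of_kdE [FiniteDimensional F V] [FiniteDimensional F W] {T : Module.End F V}
    {S : Module.End F W} (hT : IsSp T) (h : ∀ f, kdE T f = kdE S f) : IsSp S := by
  obtain ⟨e, he⟩ := exists_equiv_of_kdE_eq T S h
  exact hT.congr e he

theorem IsSp.even_finrank [FiniteDimensional F V] {T : Module.End F V} (hT : IsSp T) :
    Even (finrank F V) := by
  obtain ⟨B, h1, h2, -⟩ := hT
  exact Alt.even_finrank h1 h2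

theorem IsSp.exists_symplectic [FiniteDimensional F V] {T : Module.End F V} (hT : IsSp T) {m : ℕ}
    (hm : finrank F V = 2 * m) : ∃ A : Matrix.symplecticGroup (Fin m) F,
      ∀ f, kdM (A : Matrix (Fin m ⊕ Fin m) (Fin m ⊕ Fin m) F) f = kdE T f := by
  obtain ⟨B, h1, h2, h3⟩ := hT
  exact exists_symplectic_kdM h1 h2 hm T h3

theorem isSp_of_mem {m : ℕ} (A : Matrix.symplecticGroup (Fin m) F) :
    IsSp (toLin' (A : Matrix (Fin m ⊕ Fin m) (Fin m ⊕ Fin m) F)) :=
  ⟨_, sympBilin_isAlt m, sympBilin_nondegenerate m, fun u v => by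
    simp only [toLin'_apply, sympBilin_apply, (mem_symplecticGroup_iff_sympForm _).1 A.2]⟩

theorem antiInv_transpose : AntiInv (transposeAddEquiv ι ι F).toAddMonoidHom :=
  ⟨transpose_one, transpose_mul, transpose_transpose⟩

theorem isSp_of_matrix {A H : Matrix ι ι F} (hH : IsUnit H) (ha : ∀ v, v ⬝ᵥ H *ᵥ v = 0)
    (h : Aᵀ * H * A = H) : IsSp (toLin' A) := by
  have ha' : (toBilin' H).IsAlt := fun v => by rw [toBilin'_apply', ha]
  refine ⟨toBilin' H, ha', nondegenerate_of_isAlt ha' fun v hv => ?_, fun u v => ?_⟩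
  · have : H *ᵥ v = 0 := by
      ext i
      simpa [toBilin'_apply'] using hv (Pi.single i 1)
    obtain ⟨u, rfl⟩ := hH
    have := congrArg ((u⁻¹ : GL ι F).1 *ᵥ ·) this
    simpa using this
  · simp only [toLin'_apply, toBilin'_apply']
    conv_rhs => rw [← h, mul_assoc, ← mulVec_mulVec, dotProduct_mulVec, vecMul_transpose]
    rw [mulVec_mulVec]

/-- A matrix similar to its inverse and without eigenvalues `±1` preserves a non-degenerate
alternating form. -/
theorem isSp_of_isConj [Finite F] (A : GL ι F)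
    (h1 : IsUnit ((A : Matrix ι ι F) - (A⁻¹ : GL ι F)))
    (h : IsConj (A : Matrix ι ι F) (A⁻¹ : GL ι F)) : IsSp (toLin' (A : Matrix ι ι F)) := by
  obtain ⟨P, hP⟩ := h.trans (isConj_transpose _)
  have e0 : (A : Matrix ι ι F)ᵀ * ((A⁻¹ : GL ι F) : Matrix ι ι F)ᵀ = 1 := by
    rw [← transpose_mul, A.inv_mul, transpose_one]
  have e1 : (A : Matrix ι ι F)ᵀ * P * A = P := by
    rw [mul_assoc, hP.eq, ← mul_assoc, e0, one_mul]
  have e2 : ((P⁻¹ : GL ι F) : Matrix ι ι F) * (A : Matrix ι ι F)ᵀ * P = (A⁻¹ : GL ι F) := by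
    rw [mul_assoc, Units.inv_mul_eq_iff_eq_mul, Units.eq_mul_inv_iff_mul_eq, e1]
  have e3 : (A : Matrix ι ι F)ᵀ * (P : Matrix ι ι F)ᵀ * A = (P : Matrix ι ι F)ᵀ := by
    have := congrArg transpose e1
    rwa [transpose_mul, transpose_mul, transpose_transpose, ← mul_assoc] at this
  have e4 : Commute (A : Matrix ι ι F) ((P⁻¹ : GL ι F) * (P : Matrix ι ι F)ᵀ) := by
    have e5 : ((P⁻¹ : GL ι F) : Matrix ι ι F) = A * (((P⁻¹ : GL ι F) : Matrix ι ι F) *
        (A : Matrix ι ι F)ᵀ) := by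
      rw [← Units.mul_left_inj P, mul_assoc, e2, A.mul_inv, P.inv_mul]
    rw [Commute, SemiconjBy]
    conv_lhs => rw [← e3]
    conv_rhs => rw [e5]
    simp only [mul_assoc]
  obtain ⟨a, h2, h3⟩ := antiInv_transpose.exists_herm P (δ := A) (-1) (by simp) e4
    (e2 ▸ (Commute.refl _).units_inv_right) (e2 ▸ h1)
  have h4 : Commute a A := h2 A e4.symm (Commute.refl _) (e2 ▸ (Commute.refl _).units_inv_left)
  have h5 : (A : Matrix ι ι F)ᵀ * (P * a) * A = P * a := by
    rw [mul_assoc, mul_assoc, h4.eq, ← mul_assoc, ← mul_assoc, e1]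
  refine isSp_of_matrix h3 (fun v => ?_) ?_
  · simp [add_mulVec, neg_mulVec, dotProduct_mulVec, ← transpose_mul, vecMul_transpose,
      dotProduct_comm]
  · have := congrArg transpose h5
    rw [transpose_mul, transpose_mul (A : Matrix ι ι F)ᵀ, transpose_transpose, ← mul_assoc] at this
    simp only [mul_add, add_mul, h5, mul_smul_comm, smul_mul_assoc, AddEquiv.toAddMonoidHom_eq_coe,
      AddMonoidHom.coe_coe, transposeAddEquiv_apply, this]

theorem kdM_fromBlocks {κ : Type*} [Fintype κ] [DecidableEq κ] (A : Matrix ι ι F) (D : Matrix κ κ F)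
    (f : F[X]) : kdM (fromBlocks A 0 0 D) f = kdM A f + kdM D f := by
  rw [kdM, kdM, kdM, ← kdE_prodMap]
  refine kdE_congr (LinearEquiv.sumArrowLequivProdArrow ι κ F F) (fun v => ?_) f
  ext i <;> simp [fromBlocks_mulVec] <;> rfl

theorem mult_add_of_kdM {L : Type*} [Field L] (φ : F →+* L) {κ κ' : Type*} [Fintype κ]
    [DecidableEq κ] [Fintype κ'] [DecidableEq κ'] {A : Matrix ι ι F} {B : Matrix κ κ F}
    {C : Matrix κ' κ' F} (h : ∀ f, kdM A f = kdM B f + kdM C f) (z : L) :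
    mult φ A z = mult φ B z + mult φ C z := by
  rw [mult_of_kdM φ (B := fromBlocks B 0 0 C) (fun f => by rw [h, kdM_fromBlocks]), mult,
    fromBlocks_map, Matrix.map_zero _ (map_zero _), Matrix.map_zero _ (map_zero _), kdM_fromBlocks]
  rfl

theorem isUnit_of_rank_eq {A : Matrix ι ι F} (h : A.rank = Fintype.card ι) : IsUnit A := by
  rw [← mulVec_surjective_iff_isUnit]
  have : LinearMap.range A.mulVecLin = ⊤ :=
    Submodule.eq_top_of_finrank_eq (by rw [finrank_fintype_fun_eq_card, ← h]; rfl)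
  exact LinearMap.range_eq_top.1 this

theorem isUnit_sub_smul_of_mult {L : Type*} [Field L] (φ : F →+* L) {A : Matrix ι ι F} {c : F}
    (h : mult φ A (φ c) = 0) : IsUnit (A - c • 1) := by
  have h1 := mult_add_rank φ A (φ c)
  have h2 : A.map φ - φ c • 1 = (A - c • 1).map φ := by
    ext i j; by_cases hij : i = j <;> simp [hij]
  rw [h, zero_add, h2, Mult.rank_map_eq] at h1
  exact isUnit_of_rank_eq h1

section Count

variable {r : ℕ}

theorem exists_symplectic_mv [Fintype F] {L : Type*} [Field L] [IsAlgClosed L] (φ : F →+* L)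
    [NeZero r] (hr : Odd r) {ζ : L} (hζ : IsPrimitiveRoot ζ r) {n : ℕ} (m : ZMod r → ℕ)
    (hm : ∑ j, m j = 2 * n) (hq : ∀ j, m (Fintype.card F * j) = m j) (hneg : ∀ j, m (-j) = m j) :
    ∃ A : Matrix.symplecticGroup (Fin n) F, A ^ r = 1 ∧
      mv φ ζ 1 r (A : Matrix (Fin n ⊕ Fin n) (Fin n ⊕ Fin n) F) = m := by
  classical
  have hqu : ∀ j : ZMod r, (Fintype.card F : ZMod r) * j = 0 → j = 0 := by
    intro j hj
    obtain ⟨τ, hτ⟩ := exists_frob φ
    apply rt_injective hζ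
    apply τ.injective
    rw [hτ, ← rt_natCast_mul hζ, hj, rt_zero, map_one]
  let m' := Function.update m 0 0
  have hm' : ∀ j, j ≠ 0 → m' j = m j := fun j hj => Function.update_of_ne hj _ _
  have hm0 : m' 0 = 0 := Function.update_self _ _ _
  have hsum : ∑ j, m' j + m 0 = 2 * n := by
    rw [← hm, Finset.sum_update_of_mem (Finset.mem_univ _), zero_add,
      Finset.sum_eq_sum_sdiff_singleton_add (Finset.mem_univ 0)]
  obtain ⟨A, hA, hA'⟩ := exists_mv_one (ι := Fin (∑ j, m' j)) φ hζ m' (by simp) (fun j => by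
    by_cases hj : j = 0
    · simp [hj]
    · rw [hm' _ hj, hm' _ (mt (hqu j) hj), hq])
  have hAr := congrArg Units.val hA
  have hsp : IsSp (toLin' A.1) := by
    refine isSp_of_isConj A ?_ ?_
    · have h1 : IsUnit (A.1 - (1 : F) • 1) :=
        isUnit_sub_smul_of_mult φ (by simpa [mv, rt_zero, hm0] using congrFun hA' 0)
      obtain ⟨k, hk⟩ := hr
      have h2 : (X ^ 2 - 1 : F[X]) ∣ (X ^ 2) ^ (k + 1) - 1 := by
        simpa using sub_dvd_pow_sub_pow (X ^ 2 : F[X]) 1 (k + 1)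
      have h3 : aeval A.1 ((X ^ 2) ^ (k + 1) - 1 : F[X]) = A - (1 : F) • 1 := by
        rw [← pow_mul, show 2 * (k + 1) = r + 1 by omega]
        simp only [map_sub, map_pow, map_mul, aeval_X, map_one, pow_succ, one_smul]
        rw [← Units.val_pow_eq_pow_val, hA]; simp
      obtain ⟨c, hc⟩ := h2
      rw [← h3, hc, map_mul] at h1
      have h4 := isUnit_of_mul_isUnit_left h1
      have h5 : A.1 - (A⁻¹).1 =
          aeval A.1 (X ^ 2 - 1 : F[X]) * (A⁻¹).1 := by
        simp only [map_sub, map_mul, aeval_X, map_one, sub_mul, pow_two, one_mul,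
          Units.mul_inv_cancel_right]
      rw [h5]
      exact h4.mul (Units.isUnit _)
    · refine (isConj_iff_mv_one φ hζ hAr (by
        rw [← Units.val_pow_eq_pow_val, inv_pow, hA]; simp)).2 (funext fun j => ?_)
      rw [← neg_neg j, mv_one_inv φ hζ A.mul_inv, hA', neg_neg]
      by_cases hj : j = 0
      · simp [hj]
      · rw [hm' _ hj, hm' _ (neg_ne_zero.2 hj), hneg]
  obtain ⟨k, hk⟩ := hsp.even_finrank
  rw [finrank_fintype_fun_eq_card, Fintype.card_fin] at hk
  obtain ⟨B, hB⟩ := (hsp.prodMap (isSp_of_mem (1 : Matrix.symplecticGroup (Fin (n - k)) F))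
    ).exists_symplectic (m := n) (by simp; omega)
  have hB' : mv φ ζ 1 r (B : Matrix (Fin n ⊕ Fin n) (Fin n ⊕ Fin n) F) = m := by
    ext j
    rw [mv, mult_add_of_kdM φ (fun f => (hB f).trans (kdE_prodMap _ _ _)), ← mv, hA',
      OneMemClass.coe_one, mult_one, one_mul]
    by_cases hj : j = 0
    · simp [hj, hm0, rt_zero]; omega
    · rw [hm' _ hj, if_neg (fun h => hj (rt_injective hζ (h.trans rt_zero.symm))), add_zero]
  refine ⟨B, Subtype.ext ?_, hB'⟩
  simpa using (sum_mv_iff φ hζ one_ne_zero (c := 1) (by simp)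
    (B : Matrix (Fin n ⊕ Fin n) (Fin n ⊕ Fin n) F)).1 (by rw [hB', hm]; simp [two_mul])

theorem mv_neg_of_symplectic {L : Type*} [Field L] (φ : F →+* L)
    [NeZero r] {ζ : L} (hζ : IsPrimitiveRoot ζ r) {n : ℕ} (A : Matrix.symplecticGroup (Fin n) F)
    (j : ZMod r) : mv φ ζ 1 r (A : Matrix (Fin n ⊕ Fin n) (Fin n ⊕ Fin n) F) (-j) =
      mv φ ζ 1 r (A : Matrix (Fin n ⊕ Fin n) (Fin n ⊕ Fin n) F) j := by
  have h := SymplecticGroup.mem_iff'.1 A.2
  rw [← mv_one_inv φ hζ (congrArg Subtype.val (mul_inv_cancel A)) j, mv, mv,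
    ← mult_transpose φ (A : Matrix (Fin n ⊕ Fin n) (Fin n ⊕ Fin n) F)]
  symm
  refine mult_of_isConj φ ⟨⟨J _ F, -J _ F, by simp [J_squared], by simp [J_squared]⟩, ?_⟩ _
  change J _ F * (A⁻¹).1 = _ * J _ F
  rw [← h, mul_assoc, ← Submonoid.coe_mul, mul_inv_cancel, OneMemClass.coe_one, mul_one, h]

theorem card_classes_symplectic [Fintype F] [Fact r.Prime] (hr2 : r ≠ 2) (hrF : (r : F) ≠ 0)
    (n s : ℕ) (u : (ZMod r)ˣ) (hu : ∀ m : ZMod r → ℕ, (∀ j, m (u * j) = m j) ↔
      (∀ j, m (Fintype.card F * j) = m j) ∧ ∀ j, m (-j) = m j) (hs : s * orderOf u = r - 1) :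
    Nat.card {C : ConjClasses (Matrix.symplecticGroup (Fin n) F) //
      ∃ g, ConjClasses.mk g = C ∧ orderOf g = r} = (2 * n / orderOf u + s).choose s - 1 := by
  have hr : r.Prime := Fact.out
  let φ := algebraMap F (AlgebraicClosure F)
  obtain ⟨ζ, hζ⟩ := exists_primitiveRoot (L := AlgebraicClosure F) (r := r)
    (by rw [← map_natCast φ]; exact (map_ne_zero φ).2 hrF)
  have := finite_sum_eq_and (2 * n)
    (fun m : ZMod r → ℕ => ∀ h ∈ Subgroup.zpowers u, ∀ j, m (h * j) = m j)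
  rw [card_classes_orderOf hr (fun g : Matrix.symplecticGroup (Fin n) F =>
      mv φ ζ 1 r (g : Matrix (Fin n ⊕ Fin n) (Fin n ⊕ Fin n) F))
    (fun m => ∑ j, m j = 2 * n ∧ ∀ h ∈ Subgroup.zpowers u, ∀ j, m (h * j) = m j),
    card_invariant _ (2 * n) s (by rw [Nat.card_zpowers, hs, ZMod.card]), Nat.card_zpowers]
  · intro g g' hg hg'
    rw [isConj_symplectic_iff g g' (separable_X_pow_sub_C 1 hrF one_ne_zero).squarefree
      ((aeval_X_pow_sub_C_eq_zero _ _).2 (by simpa using congrArg Subtype.val hg))]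
    exact isConj_iff_mv_one φ hζ (congrArg Subtype.val hg) (congrArg Subtype.val hg')
  · intro m
    rw [invariant_zpowers_iff, hu]
    constructor
    · rintro ⟨h1, h2, h3⟩
      exact exists_symplectic_mv φ (hr.odd_of_ne_two hr2) hζ m h1 h2 h3
    · rintro ⟨g, hg, rfl⟩
      exact ⟨by simpa [two_mul] using sum_mv_one φ hζ (congrArg Subtype.val hg),
        mv_one_frob φ hζ _, mv_neg_of_symplectic φ hζ g⟩

theorem exists_frob_sqrt {K : Type*} [Field K] [Fintype K] {q : ℕ} (hK : Fintype.card K = q ^ 2)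
    {L : Type*} [Field L] (φ : K →+* L) : ∃ τ : L →+* L, ∀ z, τ z = z ^ q := by
  obtain ⟨p, hp⟩ := CharP.exists K
  obtain ⟨k, hp', hk⟩ := FiniteField.card K p
  have : Fact p.Prime := ⟨hp'⟩
  have : CharP L p := (φ.charP_iff_charP p).1 hp
  obtain ⟨i, -, hi⟩ := (Nat.dvd_prime_pow hp').1 (show q ∣ p ^ (k : ℕ) by
    rw [← hk, hK]; exact dvd_pow_self q two_ne_zero)
  exact ⟨iterateFrobenius L p i, fun z => by rw [iterateFrobenius_def, hi]⟩

theorem mult_adj {K : Type*} [Field K] [Fintype K] {q : ℕ} (hK : Fintype.card K = q ^ 2)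
    {σ : K →+* K} (hσq : ∀ a, σ a = a ^ q) {L : Type*} [Field L] (φ : K →+* L)
    (A : Matrix ι ι K) (z : L) : mult φ (adj ι σ A) (z ^ q) = mult φ A z := by
  obtain ⟨τ, hτ⟩ := exists_frob_sqrt hK φ
  rw [adj_apply, mult_transpose, ← hτ, mult_map φ φ σ τ (fun a => by rw [hτ, hσq, map_pow])]

theorem card_classes_GU {K : Type*} [Field K] [Fintype K] {q : ℕ} (hK : Fintype.card K = q ^ 2)
    [Fact r.Prime] (hrK : (r : K) ≠ 0) (n s : ℕ) (u : (ZMod r)ˣ) (hu : (u : ZMod r) = -q)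
    (hs : s * orderOf u = r - 1) :
    Nat.card {C : ConjClasses (Cfsg.GU n K q) // ∃ g, ConjClasses.mk g = C ∧ orderOf g = r} =
      (n / orderOf u + s).choose s - 1 := by
  have hr : r.Prime := Fact.out
  obtain ⟨σ, hσq, hσ⟩ := exists_isInvol hK
  let φ := algebraMap K (AlgebraicClosure K)
  obtain ⟨ζ, hζ⟩ := exists_primitiveRoot (L := AlgebraicClosure K) (r := r)
    (by rw [← map_natCast φ]; exact (map_ne_zero φ).2 hrK)
  have := finite_sum_eq_and n
    (fun m : ZMod r → ℕ => ∀ h ∈ Subgroup.zpowers u, ∀ j, m (h * j) = m j)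
  have hadj : ∀ (A : Matrix (Fin n) (Fin n) K) (j : ZMod r),
      mv φ ζ 1 r (adj (Fin n) σ A) (q * j) = mv φ ζ 1 r A j := fun A j => by
    rw [mv, mv, one_mul, one_mul, rt_natCast_mul hζ, mult_adj hK hσq]
  rw [card_classes_orderOf hr (fun g : Cfsg.GU n K q =>
      mv φ ζ 1 r ((g : GL (Fin n) K) : Matrix (Fin n) (Fin n) K))
    (fun m => ∑ j, m j = n ∧ ∀ h ∈ Subgroup.zpowers u, ∀ j, m (h * j) = m j),
    card_invariant _ n s (by rw [Nat.card_zpowers, hs, ZMod.card]), Nat.card_zpowers]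
  · intro g g' hg hg'
    rw [isConj_GU_iff hK, isConj_units_iff]
    exact isConj_iff_mv_one φ hζ (congrArg (fun x : Cfsg.GU n K q => x.1.1) hg)
      (congrArg (fun x : Cfsg.GU n K q => x.1.1) hg')
  · intro m
    rw [invariant_zpowers_iff, hu]
    constructor
    · rintro ⟨h1, h2⟩
      obtain ⟨A, hA, hA'⟩ := exists_mv_one (ι := Fin n) φ hζ m (by simpa using h1) (fun j => by
        rw [← h2 j, ← h2 (-q * j), hK]; congr 1; push_cast; ring)
      have hA1 : ((A⁻¹ : GL (Fin n) K) : Matrix (Fin n) (Fin n) K) ^ r = 1 := by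
        rw [← Units.val_pow_eq_pow_val, inv_pow, hA]; simp
      obtain ⟨B, hB⟩ := (exists_GU_isConj_iff hσq hσ A).2 ((isConj_iff_mv_one φ hζ
        (congrArg Units.val hA) (by
          rw [adj_apply, ← transpose_pow, ← RingHom.mapMatrix_apply, ← map_pow, hA1, map_one,
            transpose_one])).2 (funext fun j => by
        obtain ⟨j, rfl⟩ : ∃ i, j = u * i := ⟨(u⁻¹ : (ZMod r)ˣ) * j, (u.mul_inv_cancel_left j).symm⟩
        rw [hA', hu, h2, neg_mul_comm, hadj, mv_one_inv φ hζ A.mul_inv, hA']))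
      refine ⟨B, Subtype.ext ?_, ?_⟩
      · have := hB.pow r
        rw [hA, isConj_one_right] at this
        exact this
      · rw [← hA']
        exact funext fun j => (mult_of_isConj φ (isConj_units_iff.1 hB) _).symm
    · rintro ⟨g, hg, rfl⟩
      refine ⟨by simpa using sum_mv_one φ hζ (congrArg (fun x : Cfsg.GU n K q => x.1.1) hg),
        fun j => ?_⟩
      rw [neg_mul, mv_one_inv φ hζ ((mem_GU_iff_adj hσq hσ _).1 g.2), hadj]

theorem pow_half_eq_neg_one {k : Type*} [Field k] {x : kˣ} {b : ℕ} (hb : orderOf x = 2 * b)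
    (hb0 : 0 < b) : x ^ b = -1 := by
  have h1 : ((x ^ b : kˣ) : k) ^ 2 = 1 := by
    rw [← Units.val_pow_eq_pow_val, ← pow_mul, mul_comm, ← hb, pow_orderOf_eq_one]; rfl
  rcases sq_eq_one_iff.1 h1 with h | h
  · exact absurd (Units.ext h) (pow_ne_one_of_lt_orderOf hb0.ne' (by omega))
  · exact Units.ext h

end Count

end Cfsg.Agent.Lib.GL.SpReal
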